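import Cfsg.Agent.E6Deg.Arith
import Mathlib.Algebra.IsPrimePow

/-!
The arithmetic of the smallest nonlinear degree of `²E₆(q)`.
-/

set_option autoImplicit false
set_option maxRecDepth 100000
set_option maxHeartbeats 2000000

namespace Cfsg.Agent.E6Tw

/-- The bound. -/
def BT2 (q : ℤ) : ℤ := q * (q ^ 6 - q ^ 3 + 1) * (q ^ 4 + 1)

theorem reduce_one {q : ℤ} (h : (-1 + q - q ^ 2 + q ^ 3 - q ^ 4 + q ^ 5 + q ^ 7) ∣ q ^ 36 * ((q ^ 2 - 1) * (q ^ 5 + 1) * (q ^ 6 - 1) *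
      (q ^ 8 - 1) * (q ^ 9 + 1) * (q ^ 12 - 1))) :
    (-1 + q - q ^ 2 + q ^ 3 - q ^ 4 + q ^ 5 + q ^ 7) ∣ (1 : ℤ) ^ 4 * (7 : ℤ) ^ 6 * (1 : ℤ) ^ 2 * (1 : ℤ) ^ 2 * (1 : ℤ) ^ 3 * (1 : ℤ) ^ 1 * (1 : ℤ) ^ 1 * (37 : ℤ) ^ 1 * (1 : ℤ) ^ 1 * q ^ 36 := by
  set P : ℤ := -1 + q - q ^ 2 + q ^ 3 - q ^ 4 + q ^ 5 + q ^ 7 with hP
  have b1 : (1 : ℤ) = (1) * P + (-2 - q - 2 * q ^ 2 - q ^ 3 - 2 * q ^ 4 - q ^ 5 - q ^ 6) * (-1 + q) := by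
    rw [hP]; ring
  have b2 : (7 : ℤ) = (-1) * P + (6 - 5 * q + 4 * q ^ 2 - 3 * q ^ 3 + 2 * q ^ 4 - q ^ 5 + q ^ 6) * (1 + q) := by
    rw [hP]; ring
  have b3 : (1 : ℤ) = (-1 - q) * P + (q ^ 6) * (1 + q + q ^ 2) := by
    rw [hP]; ring
  have b4 : (1 : ℤ) = (-1) * P + (q - q ^ 2 + q ^ 5) * (1 + q ^ 2) := by
    rw [hP]; ring
  have b6 : (1 : ℤ) = (1 - q) * P + (2 - 2 * q ^ 3 + q ^ 6) * (1 - q + q ^ 2) := by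
    rw [hP]; ring
  have b8 : (1 : ℤ) = (q ^ 2) * P + (1 + q ^ 2 - q ^ 3 - q ^ 5) * (1 + q ^ 4) := by
    rw [hP]; ring
  have b10 : (1 : ℤ) = (-q + q ^ 2) * P + (1 + q ^ 2 - q ^ 5) * (1 - q + q ^ 2 - q ^ 3 + q ^ 4) := by
    rw [hP]; ring
  have b12 : (37 : ℤ) = (-14 - 11 * q + 8 * q ^ 2 + q ^ 3) * P + (23 + 3 * q + 28 * q ^ 2 - q ^ 3 + 9 * q ^ 4 - 8 * q ^ 5 - q ^ 6) * (1 - q ^ 2 + q ^ 4) := by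
    rw [hP]; ring
  have b18 : (1 : ℤ) = (-1 + q ^ 2 - q ^ 4) * P + (q + q ^ 5) * (1 - q ^ 3 + q ^ 6) := by
    rw [hP]; ring
  have h1 : P ∣ (-1 + q) ^ 4 * (1 + q) ^ 6 * (1 + q + q ^ 2) ^ 2 * (1 + q ^ 2) ^ 2 * (1 - q + q ^ 2) ^ 3 * (1 + q ^ 4) ^ 1 * (1 - q + q ^ 2 - q ^ 3 + q ^ 4) ^ 1 * (1 - q ^ 2 + q ^ 4) ^ 1 * (1 - q ^ 3 + q ^ 6) ^ 1 * q ^ 36 := by
    convert h using 1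
    ring
  replace h1 : P ∣ (1 : ℤ) ^ 4 * (1 + q) ^ 6 * (1 + q + q ^ 2) ^ 2 * (1 + q ^ 2) ^ 2 * (1 - q + q ^ 2) ^ 3 * (1 + q ^ 4) ^ 1 * (1 - q + q ^ 2 - q ^ 3 + q ^ 4) ^ 1 * (1 - q ^ 2 + q ^ 4) ^ 1 * (1 - q ^ 3 + q ^ 6) ^ 1 * q ^ 36 := by
    have := E6Deg.strip b1 (X := (1 + q) ^ 6 * (1 + q + q ^ 2) ^ 2 * (1 + q ^ 2) ^ 2 * (1 - q + q ^ 2) ^ 3 * (1 + q ^ 4) ^ 1 * (1 - q + q ^ 2 - q ^ 3 + q ^ 4) ^ 1 * (1 - q ^ 2 + q ^ 4) ^ 1 * (1 - q ^ 3 + q ^ 6) ^ 1 * q ^ 36) 4 (by convert h1 using 1; ring)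
    convert this using 1
    ring
  replace h1 : P ∣ (1 : ℤ) ^ 4 * (7 : ℤ) ^ 6 * (1 + q + q ^ 2) ^ 2 * (1 + q ^ 2) ^ 2 * (1 - q + q ^ 2) ^ 3 * (1 + q ^ 4) ^ 1 * (1 - q + q ^ 2 - q ^ 3 + q ^ 4) ^ 1 * (1 - q ^ 2 + q ^ 4) ^ 1 * (1 - q ^ 3 + q ^ 6) ^ 1 * q ^ 36 := by
    have := E6Deg.strip b2 (X := (1 : ℤ) ^ 4 * (1 + q + q ^ 2) ^ 2 * (1 + q ^ 2) ^ 2 * (1 - q + q ^ 2) ^ 3 * (1 + q ^ 4) ^ 1 * (1 - q + q ^ 2 - q ^ 3 + q ^ 4) ^ 1 * (1 - q ^ 2 + q ^ 4) ^ 1 * (1 - q ^ 3 + q ^ 6) ^ 1 * q ^ 36) 6 (by convert h1 using 1; ring)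
    convert this using 1
    ring
  replace h1 : P ∣ (1 : ℤ) ^ 4 * (7 : ℤ) ^ 6 * (1 : ℤ) ^ 2 * (1 + q ^ 2) ^ 2 * (1 - q + q ^ 2) ^ 3 * (1 + q ^ 4) ^ 1 * (1 - q + q ^ 2 - q ^ 3 + q ^ 4) ^ 1 * (1 - q ^ 2 + q ^ 4) ^ 1 * (1 - q ^ 3 + q ^ 6) ^ 1 * q ^ 36 := by
    have := E6Deg.strip b3 (X := (1 : ℤ) ^ 4 * (7 : ℤ) ^ 6 * (1 + q ^ 2) ^ 2 * (1 - q + q ^ 2) ^ 3 * (1 + q ^ 4) ^ 1 * (1 - q + q ^ 2 - q ^ 3 + q ^ 4) ^ 1 * (1 - q ^ 2 + q ^ 4) ^ 1 * (1 - q ^ 3 + q ^ 6) ^ 1 * q ^ 36) 2 (by convert h1 using 1; ring)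
    convert this using 1
    ring
  replace h1 : P ∣ (1 : ℤ) ^ 4 * (7 : ℤ) ^ 6 * (1 : ℤ) ^ 2 * (1 : ℤ) ^ 2 * (1 - q + q ^ 2) ^ 3 * (1 + q ^ 4) ^ 1 * (1 - q + q ^ 2 - q ^ 3 + q ^ 4) ^ 1 * (1 - q ^ 2 + q ^ 4) ^ 1 * (1 - q ^ 3 + q ^ 6) ^ 1 * q ^ 36 := by
    have := E6Deg.strip b4 (X := (1 : ℤ) ^ 4 * (7 : ℤ) ^ 6 * (1 : ℤ) ^ 2 * (1 - q + q ^ 2) ^ 3 * (1 + q ^ 4) ^ 1 * (1 - q + q ^ 2 - q ^ 3 + q ^ 4) ^ 1 * (1 - q ^ 2 + q ^ 4) ^ 1 * (1 - q ^ 3 + q ^ 6) ^ 1 * q ^ 36) 2 (by convert h1 using 1; ring)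
    convert this using 1
    ring
  replace h1 : P ∣ (1 : ℤ) ^ 4 * (7 : ℤ) ^ 6 * (1 : ℤ) ^ 2 * (1 : ℤ) ^ 2 * (1 : ℤ) ^ 3 * (1 + q ^ 4) ^ 1 * (1 - q + q ^ 2 - q ^ 3 + q ^ 4) ^ 1 * (1 - q ^ 2 + q ^ 4) ^ 1 * (1 - q ^ 3 + q ^ 6) ^ 1 * q ^ 36 := by
    have := E6Deg.strip b6 (X := (1 : ℤ) ^ 4 * (7 : ℤ) ^ 6 * (1 : ℤ) ^ 2 * (1 : ℤ) ^ 2 * (1 + q ^ 4) ^ 1 * (1 - q + q ^ 2 - q ^ 3 + q ^ 4) ^ 1 * (1 - q ^ 2 + q ^ 4) ^ 1 * (1 - q ^ 3 + q ^ 6) ^ 1 * q ^ 36) 3 (by convert h1 using 1; ring)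
    convert this using 1
    ring
  replace h1 : P ∣ (1 : ℤ) ^ 4 * (7 : ℤ) ^ 6 * (1 : ℤ) ^ 2 * (1 : ℤ) ^ 2 * (1 : ℤ) ^ 3 * (1 : ℤ) ^ 1 * (1 - q + q ^ 2 - q ^ 3 + q ^ 4) ^ 1 * (1 - q ^ 2 + q ^ 4) ^ 1 * (1 - q ^ 3 + q ^ 6) ^ 1 * q ^ 36 := by
    have := E6Deg.strip b8 (X := (1 : ℤ) ^ 4 * (7 : ℤ) ^ 6 * (1 : ℤ) ^ 2 * (1 : ℤ) ^ 2 * (1 : ℤ) ^ 3 * (1 - q + q ^ 2 - q ^ 3 + q ^ 4) ^ 1 * (1 - q ^ 2 + q ^ 4) ^ 1 * (1 - q ^ 3 + q ^ 6) ^ 1 * q ^ 36) 1 (by convert h1 using 1; ring)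
    convert this using 1
    ring
  replace h1 : P ∣ (1 : ℤ) ^ 4 * (7 : ℤ) ^ 6 * (1 : ℤ) ^ 2 * (1 : ℤ) ^ 2 * (1 : ℤ) ^ 3 * (1 : ℤ) ^ 1 * (1 : ℤ) ^ 1 * (1 - q ^ 2 + q ^ 4) ^ 1 * (1 - q ^ 3 + q ^ 6) ^ 1 * q ^ 36 := by
    have := E6Deg.strip b10 (X := (1 : ℤ) ^ 4 * (7 : ℤ) ^ 6 * (1 : ℤ) ^ 2 * (1 : ℤ) ^ 2 * (1 : ℤ) ^ 3 * (1 : ℤ) ^ 1 * (1 - q ^ 2 + q ^ 4) ^ 1 * (1 - q ^ 3 + q ^ 6) ^ 1 * q ^ 36) 1 (by convert h1 using 1; ring)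
    convert this using 1
    ring
  replace h1 : P ∣ (1 : ℤ) ^ 4 * (7 : ℤ) ^ 6 * (1 : ℤ) ^ 2 * (1 : ℤ) ^ 2 * (1 : ℤ) ^ 3 * (1 : ℤ) ^ 1 * (1 : ℤ) ^ 1 * (37 : ℤ) ^ 1 * (1 - q ^ 3 + q ^ 6) ^ 1 * q ^ 36 := by
    have := E6Deg.strip b12 (X := (1 : ℤ) ^ 4 * (7 : ℤ) ^ 6 * (1 : ℤ) ^ 2 * (1 : ℤ) ^ 2 * (1 : ℤ) ^ 3 * (1 : ℤ) ^ 1 * (1 : ℤ) ^ 1 * (1 - q ^ 3 + q ^ 6) ^ 1 * q ^ 36) 1 (by convert h1 using 1; ring)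
    convert this using 1
    ring
  replace h1 : P ∣ (1 : ℤ) ^ 4 * (7 : ℤ) ^ 6 * (1 : ℤ) ^ 2 * (1 : ℤ) ^ 2 * (1 : ℤ) ^ 3 * (1 : ℤ) ^ 1 * (1 : ℤ) ^ 1 * (37 : ℤ) ^ 1 * (1 : ℤ) ^ 1 * q ^ 36 := by
    have := E6Deg.strip b18 (X := (1 : ℤ) ^ 4 * (7 : ℤ) ^ 6 * (1 : ℤ) ^ 2 * (1 : ℤ) ^ 2 * (1 : ℤ) ^ 3 * (1 : ℤ) ^ 1 * (1 : ℤ) ^ 1 * (37 : ℤ) ^ 1 * q ^ 36) 1 (by convert h1 using 1; ring)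
    convert this using 1
    ring
  exact h1

theorem reduce_two {q : ℤ} (h : (2 + q + q ^ 2 + q ^ 3 + 2 * q ^ 4 + q ^ 5 + q ^ 6 + q ^ 8 + q ^ 9 + q ^ 10) ∣ q ^ 36 * ((q ^ 2 - 1) * (q ^ 5 + 1) * (q ^ 6 - 1) *
      (q ^ 8 - 1) * (q ^ 9 + 1) * (q ^ 12 - 1))) :
    (2 + q + q ^ 2 + q ^ 3 + 2 * q ^ 4 + q ^ 5 + q ^ 6 + q ^ 8 + q ^ 9 + q ^ 10) ∣ (12 : ℤ) ^ 4 * (4 : ℤ) ^ 6 * (3 : ℤ) ^ 2 * (4 : ℤ) ^ 2 * (1 : ℤ) ^ 3 * (2 : ℤ) ^ 1 * (11 : ℤ) ^ 1 * (1 : ℤ) ^ 1 * (2 : ℤ) ^ 1 * q ^ 36 := by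
  set P : ℤ := 2 + q + q ^ 2 + q ^ 3 + 2 * q ^ 4 + q ^ 5 + q ^ 6 + q ^ 8 + q ^ 9 + q ^ 10 with hP
  have b1 : (12 : ℤ) = (1) * P + (-10 - 9 * q - 8 * q ^ 2 - 7 * q ^ 3 - 5 * q ^ 4 - 4 * q ^ 5 - 3 * q ^ 6 - 3 * q ^ 7 - 2 * q ^ 8 - q ^ 9) * (-1 + q) := by
    rw [hP]; ring
  have b2 : (4 : ℤ) = (1) * P + (2 - 3 * q + 2 * q ^ 2 - 3 * q ^ 3 + q ^ 4 - 2 * q ^ 5 + q ^ 6 - q ^ 7 - q ^ 9) * (1 + q) := by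
    rw [hP]; ring
  have b3 : (3 : ℤ) = (1 - q) * P + (1 - q ^ 2 + q ^ 3 - q ^ 4 + q ^ 5 - q ^ 8 + q ^ 9) * (1 + q + q ^ 2) := by
    rw [hP]; ring
  have b4 : (4 : ℤ) = (1 - q) * P + (2 + q - 2 * q ^ 2 - q ^ 3 + q ^ 4 + 2 * q ^ 5 - q ^ 6 - q ^ 7 + q ^ 9) * (1 + q ^ 2) := by
    rw [hP]; ring
  have b6 : (1 : ℤ) = (-1 + q) * P + (3 + 2 * q - q ^ 2 - 3 * q ^ 3 - q ^ 4 + q ^ 5 + 2 * q ^ 6 - q ^ 8 - q ^ 9) * (1 - q + q ^ 2) := by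
    rw [hP]; ring
  have b8 : (2 : ℤ) = (1 - q) * P + (q - q ^ 4 + q ^ 7) * (1 + q ^ 4) := by
    rw [hP]; ring
  have b10 : (11 : ℤ) = (6 - 3 * q - q ^ 2 - q ^ 3) * P + (-1 - q - q ^ 2 - q ^ 3 - 7 * q ^ 4 - 4 * q ^ 5 + 3 * q ^ 6 + 7 * q ^ 7 + 3 * q ^ 8 + q ^ 9) * (1 - q + q ^ 2 - q ^ 3 + q ^ 4) := by
    rw [hP]; ring
  have b12 : (1 : ℤ) = (1 - q) * P + (-1 + q - q ^ 2 + q ^ 3 - q ^ 4 + q ^ 5 + q ^ 7) * (1 - q ^ 2 + q ^ 4) := by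
    rw [hP]; ring
  have b18 : (2 : ℤ) = (1 - q) * P + (q + q ^ 5) * (1 - q ^ 3 + q ^ 6) := by
    rw [hP]; ring
  have h1 : P ∣ (-1 + q) ^ 4 * (1 + q) ^ 6 * (1 + q + q ^ 2) ^ 2 * (1 + q ^ 2) ^ 2 * (1 - q + q ^ 2) ^ 3 * (1 + q ^ 4) ^ 1 * (1 - q + q ^ 2 - q ^ 3 + q ^ 4) ^ 1 * (1 - q ^ 2 + q ^ 4) ^ 1 * (1 - q ^ 3 + q ^ 6) ^ 1 * q ^ 36 := by
    convert h using 1
    ring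
  replace h1 : P ∣ (12 : ℤ) ^ 4 * (1 + q) ^ 6 * (1 + q + q ^ 2) ^ 2 * (1 + q ^ 2) ^ 2 * (1 - q + q ^ 2) ^ 3 * (1 + q ^ 4) ^ 1 * (1 - q + q ^ 2 - q ^ 3 + q ^ 4) ^ 1 * (1 - q ^ 2 + q ^ 4) ^ 1 * (1 - q ^ 3 + q ^ 6) ^ 1 * q ^ 36 := by
    have := E6Deg.strip b1 (X := (1 + q) ^ 6 * (1 + q + q ^ 2) ^ 2 * (1 + q ^ 2) ^ 2 * (1 - q + q ^ 2) ^ 3 * (1 + q ^ 4) ^ 1 * (1 - q + q ^ 2 - q ^ 3 + q ^ 4) ^ 1 * (1 - q ^ 2 + q ^ 4) ^ 1 * (1 - q ^ 3 + q ^ 6) ^ 1 * q ^ 36) 4 (by convert h1 using 1; ring)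
    convert this using 1
    ring
  replace h1 : P ∣ (12 : ℤ) ^ 4 * (4 : ℤ) ^ 6 * (1 + q + q ^ 2) ^ 2 * (1 + q ^ 2) ^ 2 * (1 - q + q ^ 2) ^ 3 * (1 + q ^ 4) ^ 1 * (1 - q + q ^ 2 - q ^ 3 + q ^ 4) ^ 1 * (1 - q ^ 2 + q ^ 4) ^ 1 * (1 - q ^ 3 + q ^ 6) ^ 1 * q ^ 36 := by
    have := E6Deg.strip b2 (X := (12 : ℤ) ^ 4 * (1 + q + q ^ 2) ^ 2 * (1 + q ^ 2) ^ 2 * (1 - q + q ^ 2) ^ 3 * (1 + q ^ 4) ^ 1 * (1 - q + q ^ 2 - q ^ 3 + q ^ 4) ^ 1 * (1 - q ^ 2 + q ^ 4) ^ 1 * (1 - q ^ 3 + q ^ 6) ^ 1 * q ^ 36) 6 (by convert h1 using 1; ring)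
    convert this using 1
    ring
  replace h1 : P ∣ (12 : ℤ) ^ 4 * (4 : ℤ) ^ 6 * (3 : ℤ) ^ 2 * (1 + q ^ 2) ^ 2 * (1 - q + q ^ 2) ^ 3 * (1 + q ^ 4) ^ 1 * (1 - q + q ^ 2 - q ^ 3 + q ^ 4) ^ 1 * (1 - q ^ 2 + q ^ 4) ^ 1 * (1 - q ^ 3 + q ^ 6) ^ 1 * q ^ 36 := by
    have := E6Deg.strip b3 (X := (12 : ℤ) ^ 4 * (4 : ℤ) ^ 6 * (1 + q ^ 2) ^ 2 * (1 - q + q ^ 2) ^ 3 * (1 + q ^ 4) ^ 1 * (1 - q + q ^ 2 - q ^ 3 + q ^ 4) ^ 1 * (1 - q ^ 2 + q ^ 4) ^ 1 * (1 - q ^ 3 + q ^ 6) ^ 1 * q ^ 36) 2 (by convert h1 using 1; ring)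
    convert this using 1
    ring
  replace h1 : P ∣ (12 : ℤ) ^ 4 * (4 : ℤ) ^ 6 * (3 : ℤ) ^ 2 * (4 : ℤ) ^ 2 * (1 - q + q ^ 2) ^ 3 * (1 + q ^ 4) ^ 1 * (1 - q + q ^ 2 - q ^ 3 + q ^ 4) ^ 1 * (1 - q ^ 2 + q ^ 4) ^ 1 * (1 - q ^ 3 + q ^ 6) ^ 1 * q ^ 36 := by
    have := E6Deg.strip b4 (X := (12 : ℤ) ^ 4 * (4 : ℤ) ^ 6 * (3 : ℤ) ^ 2 * (1 - q + q ^ 2) ^ 3 * (1 + q ^ 4) ^ 1 * (1 - q + q ^ 2 - q ^ 3 + q ^ 4) ^ 1 * (1 - q ^ 2 + q ^ 4) ^ 1 * (1 - q ^ 3 + q ^ 6) ^ 1 * q ^ 36) 2 (by convert h1 using 1; ring)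
    convert this using 1
    ring
  replace h1 : P ∣ (12 : ℤ) ^ 4 * (4 : ℤ) ^ 6 * (3 : ℤ) ^ 2 * (4 : ℤ) ^ 2 * (1 : ℤ) ^ 3 * (1 + q ^ 4) ^ 1 * (1 - q + q ^ 2 - q ^ 3 + q ^ 4) ^ 1 * (1 - q ^ 2 + q ^ 4) ^ 1 * (1 - q ^ 3 + q ^ 6) ^ 1 * q ^ 36 := by
    have := E6Deg.strip b6 (X := (12 : ℤ) ^ 4 * (4 : ℤ) ^ 6 * (3 : ℤ) ^ 2 * (4 : ℤ) ^ 2 * (1 + q ^ 4) ^ 1 * (1 - q + q ^ 2 - q ^ 3 + q ^ 4) ^ 1 * (1 - q ^ 2 + q ^ 4) ^ 1 * (1 - q ^ 3 + q ^ 6) ^ 1 * q ^ 36) 3 (by convert h1 using 1; ring)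
    convert this using 1
    ring
  replace h1 : P ∣ (12 : ℤ) ^ 4 * (4 : ℤ) ^ 6 * (3 : ℤ) ^ 2 * (4 : ℤ) ^ 2 * (1 : ℤ) ^ 3 * (2 : ℤ) ^ 1 * (1 - q + q ^ 2 - q ^ 3 + q ^ 4) ^ 1 * (1 - q ^ 2 + q ^ 4) ^ 1 * (1 - q ^ 3 + q ^ 6) ^ 1 * q ^ 36 := by
    have := E6Deg.strip b8 (X := (12 : ℤ) ^ 4 * (4 : ℤ) ^ 6 * (3 : ℤ) ^ 2 * (4 : ℤ) ^ 2 * (1 : ℤ) ^ 3 * (1 - q + q ^ 2 - q ^ 3 + q ^ 4) ^ 1 * (1 - q ^ 2 + q ^ 4) ^ 1 * (1 - q ^ 3 + q ^ 6) ^ 1 * q ^ 36) 1 (by convert h1 using 1; ring)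
    convert this using 1
    ring
  replace h1 : P ∣ (12 : ℤ) ^ 4 * (4 : ℤ) ^ 6 * (3 : ℤ) ^ 2 * (4 : ℤ) ^ 2 * (1 : ℤ) ^ 3 * (2 : ℤ) ^ 1 * (11 : ℤ) ^ 1 * (1 - q ^ 2 + q ^ 4) ^ 1 * (1 - q ^ 3 + q ^ 6) ^ 1 * q ^ 36 := by
    have := E6Deg.strip b10 (X := (12 : ℤ) ^ 4 * (4 : ℤ) ^ 6 * (3 : ℤ) ^ 2 * (4 : ℤ) ^ 2 * (1 : ℤ) ^ 3 * (2 : ℤ) ^ 1 * (1 - q ^ 2 + q ^ 4) ^ 1 * (1 - q ^ 3 + q ^ 6) ^ 1 * q ^ 36) 1 (by convert h1 using 1; ring)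
    convert this using 1
    ring
  replace h1 : P ∣ (12 : ℤ) ^ 4 * (4 : ℤ) ^ 6 * (3 : ℤ) ^ 2 * (4 : ℤ) ^ 2 * (1 : ℤ) ^ 3 * (2 : ℤ) ^ 1 * (11 : ℤ) ^ 1 * (1 : ℤ) ^ 1 * (1 - q ^ 3 + q ^ 6) ^ 1 * q ^ 36 := by
    have := E6Deg.strip b12 (X := (12 : ℤ) ^ 4 * (4 : ℤ) ^ 6 * (3 : ℤ) ^ 2 * (4 : ℤ) ^ 2 * (1 : ℤ) ^ 3 * (2 : ℤ) ^ 1 * (11 : ℤ) ^ 1 * (1 - q ^ 3 + q ^ 6) ^ 1 * q ^ 36) 1 (by convert h1 using 1; ring)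
    convert this using 1
    ring
  replace h1 : P ∣ (12 : ℤ) ^ 4 * (4 : ℤ) ^ 6 * (3 : ℤ) ^ 2 * (4 : ℤ) ^ 2 * (1 : ℤ) ^ 3 * (2 : ℤ) ^ 1 * (11 : ℤ) ^ 1 * (1 : ℤ) ^ 1 * (2 : ℤ) ^ 1 * q ^ 36 := by
    have := E6Deg.strip b18 (X := (12 : ℤ) ^ 4 * (4 : ℤ) ^ 6 * (3 : ℤ) ^ 2 * (4 : ℤ) ^ 2 * (1 : ℤ) ^ 3 * (2 : ℤ) ^ 1 * (11 : ℤ) ^ 1 * (1 : ℤ) ^ 1 * q ^ 36) 1 (by convert h1 using 1; ring)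
    convert this using 1
    ring
  exact h1

/-- The order, up to the centre. -/
def NT (q : ℤ) : ℤ :=
  q ^ 36 * ((q ^ 2 - 1) * (q ^ 5 + 1) * (q ^ 6 - 1) * (q ^ 8 - 1) * (q ^ 9 + 1) * (q ^ 12 - 1))

/-- One less than the bound does not divide the order. -/
theorem not_dvd_one {q : ℕ} (hq : 2 ≤ q) : ¬ (BT2 q - 1) ∣ NT q := by
  intro h
  rcases Nat.lt_or_ge q 10 with h7 | h7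
  · interval_cases q <;> norm_num [BT2, NT] at h
  have hq' : (10 : ℤ) ≤ (q : ℤ) := by exact_mod_cast h7
  clear hq h7
  generalize (q : ℤ) = q at *
  have h1 := reduce_one (q := q) ((Dvd.intro_left (1 - q ^ 2 + q ^ 4) (by rw [BT2]; ring)).trans h)
  set P : ℤ := -1 + q - q ^ 2 + q ^ 3 - q ^ 4 + q ^ 5 + q ^ 7 with hP
  have hcop : IsCoprime P (q ^ 36) :=
    (show IsCoprime P q from ⟨-1, 1 - q + q ^ 2 - q ^ 3 + q ^ 4 + q ^ 6, by rw [hP]; ring⟩).pow_right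
  have h2 := hcop.dvd_of_dvd_mul_right h1
  have hle := Int.le_of_dvd (by norm_num) h2
  have h5 : (0 : ℤ) ≤ q ^ 4 * (q - 1) := by
    have : (0 : ℤ) ≤ q - 1 := by omega
    positivity
  have h3 : (0 : ℤ) ≤ q ^ 2 * (q - 1) := by
    have : (0 : ℤ) ≤ q - 1 := by omega
    positivity
  have h7 : (10 : ℤ) ^ 7 ≤ q ^ 7 := pow_le_pow_left₀ (by norm_num) hq' 7
  norm_num at hle h7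
  linarith

/-- Two less than the bound does not divide the order. -/
theorem not_dvd_two {q : ℕ} (hq : IsPrimePow q) : ¬ (BT2 q - 2) ∣ NT q := by
  intro h
  rcases Nat.lt_or_ge q 17 with h7 | h7
  · have := hq.two_le
    interval_cases q <;> norm_num [BT2, NT] at h
  have hq' : (17 : ℤ) ≤ (q : ℤ) := by exact_mod_cast h7
  have hcases : Odd q ∨ 4 ∣ q := by
    obtain ⟨p, k, hp, hk, rfl⟩ := (isPrimePow_nat_iff q).1 hq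
    rcases hp.eq_two_or_odd' with rfl | hodd
    · refine Or.inr (pow_dvd_pow 2 (show 2 ≤ k from ?_))
      by_contra hk'
      obtain rfl : k = 1 := by omega
      norm_num at h7
    · exact Or.inl hodd.pow
  have h1 := reduce_two (q := (q : ℤ)) ((Dvd.intro_left ((q : ℤ) - 1) (by rw [BT2]; ring)).trans h)
  generalize hP : 2 + (q : ℤ) + (q : ℤ) ^ 2 + (q : ℤ) ^ 3 + 2 * (q : ℤ) ^ 4 + (q : ℤ) ^ 5 + (q : ℤ) ^ 6 +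
    (q : ℤ) ^ 8 + (q : ℤ) ^ 9 + (q : ℤ) ^ 10 = P at h1
  set R : ℤ := 1 + (q : ℤ) + (q : ℤ) ^ 2 + 2 * (q : ℤ) ^ 3 + (q : ℤ) ^ 4 + (q : ℤ) ^ 5 +
    (q : ℤ) ^ 7 + (q : ℤ) ^ 8 + (q : ℤ) ^ 9 with hR
  have hle : P ≤ 2 * 538145980416 := by
    rcases hcases with hodd | ⟨r, hr⟩
    · obtain ⟨j, hj⟩ := hodd
      have hcop : IsCoprime P (q : ℤ) :=
        ⟨-(j : ℤ), 1 + (j : ℤ) * R, by rw [← hP, hR, show (q : ℤ) = 2 * (j : ℤ) + 1 by rw [hj]; push_cast; ring]; ring⟩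
      have h2 := hcop.pow_right.dvd_of_dvd_mul_right h1
      have := Int.le_of_dvd (by norm_num) h2
      norm_num at this
      linarith
    · have hh : P = 2 * (1 + 2 * (r : ℤ) * R) := by
        rw [← hP, hR, show (q : ℤ) = 4 * (r : ℤ) by rw [hr]; push_cast; ring]; ring
      have hcop : IsCoprime (1 + 2 * (r : ℤ) * R) (q : ℤ) := by
        rw [show (q : ℤ) = 2 * (2 * (r : ℤ)) by rw [hr]; push_cast; ring]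
        exact (show IsCoprime (1 + 2 * (r : ℤ) * R) 2 from ⟨1, -((r : ℤ) * R), by ring⟩).mul_right
          (show IsCoprime (1 + 2 * (r : ℤ) * R) (2 * (r : ℤ)) from ⟨1, -R, by ring⟩)
      have h2 := hcop.pow_right.dvd_of_dvd_mul_right
        ((Dvd.intro_left 2 hh.symm).trans h1)
      have := Int.le_of_dvd (by norm_num) h2
      norm_num at this
      linarith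
  have h10 : (17 : ℤ) ^ 10 ≤ (q : ℤ) ^ 10 := pow_le_pow_left₀ (by norm_num) hq' 10
  have hn : ∀ e, (0 : ℤ) ≤ (q : ℤ) ^ e := fun e => by positivity
  norm_num at h10
  linarith [hn 2, hn 3, hn 4, hn 5, hn 6, hn 8, hn 9]

end Cfsg.Agent.E6Tw
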