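import Cfsg.Agent.E6Tw.Rep
import Cfsg.Agent.E6Tw.Arith

/-!
The smallest nonlinear degree of `²E₆(q)`.
-/

set_option autoImplicit false
set_option maxRecDepth 100000
set_option maxHeartbeats 1000000

namespace Cfsg.Agent.E6Tw

open Cfsg.Lie Cfsg.Agent.Chev Cfsg.Agent.E6Deg

universe u

theorem steps {q : ℤ} (hq : 2 ≤ q) :
    2 * q ^ 1 ≤ q ^ 2 ∧ 2 * q ^ 2 ≤ q ^ 3 ∧ 2 * q ^ 3 ≤ q ^ 4 ∧ 2 * q ^ 4 ≤ q ^ 5 ∧ 2 * q ^ 5 ≤ q ^ 6 ∧ 2 * q ^ 6 ≤ q ^ 7 ∧ 2 * q ^ 7 ≤ q ^ 8 ∧ 2 * q ^ 8 ≤ q ^ 9 ∧ 2 * q ^ 9 ≤ q ^ 10 ∧ 2 * q ^ 10 ≤ q ^ 11 ∧ 2 * 1 ≤ q := by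
  have h : ∀ e, 2 * q ^ e ≤ q ^ (e + 1) := fun e => by
    rw [pow_succ']; exact mul_le_mul_of_nonneg_right hq (by positivity)
  exact ⟨h 1, h 2, h 3, h 4, h 5, h 6, h 7, h 8, h 9, h 10, by omega⟩

/-- Cases of the multiplicities. -/
theorem degree_casesT {q O d₀ d₁ s m k : ℤ} (hq : 2 ≤ q)
    (hO : (q - 1) * (q ^ 9 + q ^ 8 + q ^ 6 + q ^ 5 + q ^ 4 + q ^ 3 + q + 1) ≤ O)
    (hd : 1 ≤ d₁) (hd0 : 0 ≤ d₀) (hs : d₁ * O + d₀ ≤ s) (hm : 1 ≤ m)
    (hk : k = s + (q - 1) * (q ^ 10 * m)) (hlt : k < BT2 q) : m = 1 ∧ d₁ = 1 := by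
  unfold BT2 at hlt
  obtain ⟨a1, a2, a3, a4, a5, a6, a7, a8, a9, a10, a0⟩ := steps hq
  have hn : ∀ e, 0 ≤ q ^ e := fun e => by positivity
  have hO0 : 0 ≤ O := le_trans (mul_nonneg (by omega) (by linarith [hn 9, hn 8, hn 6, hn 5, hn 4, hn 3])) hO
  have hl : (q - 1) * q ^ 10 ≤ (q - 1) * (q ^ 10 * m) :=
    mul_le_mul_of_nonneg_left (le_mul_of_one_le_right (hn 10) hm) (by omega)
  have hd' : O ≤ d₁ * O := le_mul_of_one_le_left hO0 hd
  constructor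
  · by_contra hne
    have h2 : (q - 1) * (q ^ 10 * 2) ≤ (q - 1) * (q ^ 10 * m) :=
      mul_le_mul_of_nonneg_left (mul_le_mul_of_nonneg_left (by omega) (hn 10)) (by omega)
    ring_nf at hlt h2 hO hk hd' a1 a2 a3 a4 a5 a6 a7 a8 a9 a10
    linarith [hn 2, hn 3, hn 4, hn 5, hn 6, hn 7, hn 8, hn 9, hn 10, hn 11]
  · by_contra hne
    have h2 : 2 * O ≤ d₁ * O := mul_le_mul_of_nonneg_right (by omega) hO0
    ring_nf at hlt h2 hO hk hl a1 a2 a3 a4 a5 a6 a7 a8 a9 a10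
    linarith [hn 2, hn 3, hn 4, hn 5, hn 6, hn 7, hn 8, hn 9, hn 10, hn 11]

/-- A large class exceeds the bound. -/
theorem not_large {q s m k : ℤ} (hq : 2 ≤ q) (hm : 1 ≤ m) (hk : k = s + (q - 1) * (q ^ 10 * m))
    (hlt : k < BT2 q) : ¬ q ^ 11 ≤ s := by
  intro hs
  unfold BT2 at hlt
  obtain ⟨a1, a2, a3, a4, a5, a6, a7, a8, a9, a10, a0⟩ := steps hq
  have hn : ∀ e, 0 ≤ q ^ e := fun e => by positivity
  have hl : (q - 1) * q ^ 10 ≤ (q - 1) * (q ^ 10 * m) :=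
    mul_le_mul_of_nonneg_left (le_mul_of_one_le_right (hn 10) hm) (by omega)
  ring_nf at hlt hk hl hs a1 a2 a3 a4 a5 a6 a7 a8 a9 a10
  linarith [hn 2, hn 3, hn 4, hn 5, hn 6, hn 7, hn 8, hn 9, hn 10, hn 11]

theorem bnd_six {q : ℕ} (hq : 1 ≤ q) :
    (SUDeg.bnd q 6 : ℤ) = (q : ℤ) ^ 5 - (q : ℤ) ^ 4 + (q : ℤ) ^ 3 - (q : ℤ) ^ 2 + q - 1 := by
  simp only [SUDeg.bnd]
  push_cast [Nat.cast_sub hq]
  ring

/-- The bound, when the test element is trivial on the fixed space. -/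
theorem fix_large {q O Zc Z2 Fx : ℤ} (hq : 2 ≤ q) (hsplit : Z2 + Zc = O)
    (hc : (q - 1) * (q ^ 9 + (q ^ 8 - q ^ 7) + (q ^ 6 - q ^ 5) + q ^ 5) ≤ Zc)
    (hF : (q - 1) * (q ^ 4 + q ^ 3 + q + 1) ≤ Fx)
    (heq : O + (q - 1) * Fx = q * Z2 + (q - 1) * q ^ 9) : BT2 q - (q - 1) * q ^ 10 ≤ O := by
  unfold BT2
  have h1 : q * ((q - 1) * (q ^ 9 + (q ^ 8 - q ^ 7) + (q ^ 6 - q ^ 5) + q ^ 5)) ≤ q * Zc :=
    mul_le_mul_of_nonneg_left hc (by omega)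
  have h2 : (q - 1) * ((q - 1) * (q ^ 4 + q ^ 3 + q + 1)) ≤ (q - 1) * Fx :=
    mul_le_mul_of_nonneg_left hF (by omega)
  have h3 : (q - 1) * (q ^ 10 - q ^ 8 + q ^ 7 + q ^ 5 - q ^ 3 + q ^ 2 - 1) ≤ (q - 1) * O := by
    linear_combination h1 + h2 + heq + q * hsplit
  have h4 := le_of_mul_le_mul_left h3 (by omega)
  have h5 : 0 ≤ q ^ 3 * (q - 2) := mul_nonneg (by positivity) (by omega)
  have h6 : 0 ≤ q * (q - 2) := mul_nonneg (by omega) (by omega)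
  have h7 : 2 ^ 3 ≤ q ^ 3 := pow_le_pow_left₀ (by norm_num) hq 3
  linear_combination h4 + h5 + h6 + h7 + hq

variable {K : Type u} [Field K] [Fintype K] {φ : K →+* K} (hφ : ∀ t, (φ ^ 2) t = t)

theorem min_degreeT {q : ℕ} (hqp : IsPrimePow q) (hqφ : ∀ (j : ℕ) (t : K), (φ ^ j) t = t ^ q ^ j)
    (hK : Fintype.card K = q ^ 2) {k : ℕ} (ρ : Representation ℂ (GT hφ) (Fin k → ℂ))
    (hρ : ρ.IsIrreducible) (hk : 2 ≤ k) : q * (q ^ 6 - q ^ 3 + 1) * (q ^ 4 + 1) ≤ k := by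
  classical
  have hq2 : 2 ≤ q := hqp.two_le
  have hc : IsConj φ := isConj_of hφ (by
    by_contra hcon
    push Not at hcon
    have hroot : ∀ t : K, t ^ q = t := fun t => by
      rw [← e6_hq φ hqφ t]; exact hcon t
    have hdeg : (Polynomial.X ^ q - Polynomial.X : Polynomial K).natDegree = q :=
      FiniteField.X_pow_card_sub_X_natDegree_eq K (by omega)
    have hne : (Polynomial.X ^ q - Polynomial.X : Polynomial K) ≠ 0 := fun h => by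
      rw [h, Polynomial.natDegree_zero] at hdeg; omega
    have hle := Polynomial.card_le_degree_of_subset_roots
      (p := (Polynomial.X ^ q - Polynomial.X : Polynomial K)) (Z := Finset.univ) fun t _ => by
        simp [Polynomial.mem_roots', hne, hroot t]
    rw [hdeg, Finset.card_univ, hK] at hle
    have : q * 2 ≤ q ^ 2 := by rw [pow_two]; exact Nat.mul_le_mul_left q hq2
    omega)
  by_contra hlt0
  have h63 : q ^ 3 ≤ q ^ 6 := Nat.pow_le_pow_right (by omega) (by norm_num)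
  have hlt : (k : ℤ) < BT2 q := by
    have h := Int.ofNat_lt.2 (not_le.1 hlt0)
    push_cast [Nat.cast_sub h63] at h
    exact h
  have hcardF : Fintype.card (F0 φ) = q := by rw [← Nat.card_eq_fintype_card, hc.card_F0 hK]
  have hqC : (q : ℂ) ≠ 0 := Nat.cast_ne_zero.2 (by omega)
  have hq2z : (2 : ℤ) ≤ q := by exact_mod_cast hq2
  obtain ⟨θ, hθ⟩ := hc.exists_theta
  obtain ⟨s, m, hm, hks, hs, hqs, hck⟩ := basicT hφ hc ρ hq2 hK
    (e6_twist_simple φ hφ hqφ hq2 hK).1 hρ hk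
  set χ : GT hφ → ℂ := ρ.character with hχ
  have hdim : Module.finrank ℂ (Fin k → ℂ) = k := by rw [Module.finrank_pi, Fintype.card_fin]
  have hχ1 : χ 1 = (k : ℂ) := by rw [hχ, Representation.char_one, hdim]
  have hksZ : (k : ℤ) = s + ((q : ℤ) - 1) * ((q : ℤ) ^ 10 * m) := by
    rw [hks, Nat.cast_add, Nat.cast_mul, Nat.cast_sub (by omega), Nat.cast_mul, Nat.cast_pow, Nat.cast_one]
  have hm' : (1 : ℤ) ≤ m := by exact_mod_cast hm
  have hsum := sum_ddT_total hφ hc ρ (by omega) hK hs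
  have hsmall : ¬ q ^ 11 ≤ s := fun h =>
    not_large hq2z hm' hksZ hlt (by exact_mod_cast h)
  obtain ⟨gw, cw, dw, hcw, hdw, hgw⟩ := exists_weylT hφ hθ
  have haT0 : aT hφ θ ((0 : F0 φ) : K) = 1 := by
    refine inG_injective hφ ?_
    rw [inG_aT hφ hθ, map_one, ZeroMemClass.coe_zero, xl, mul_zero, xx_zero]
  have hz0 : zT hφ 0 = 1 := by
    have h := zT_add hφ 0 0
    rw [add_zero, left_eq_mul] at h
    exact h
  -- a nontrivial character occurs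
  obtain ⟨Λ₁, hΛ₁, hd₁⟩ : ∃ Λ, Λ ≠ 0 ∧ 0 < ddT hφ ρ Λ := by
    by_contra hc'
    push Not at hc'
    have hz : ∑ Λ, (ddT hφ ρ Λ : ℂ) *
        lamH (piT hφ) Λ ⟨two hφ θ ((0 : F0 φ) : K) ((1 : F0 φ) : K), two_mem hφ _ _ _⟩ = (s : ℂ) := by
      rw [Finset.sum_eq_single (0 : AddChar (Additive ↥(QT hφ)) ℂ)]
      · rw [lamH, AddChar.zero_apply, mul_one, ← hsum,
          Finset.sum_eq_single (0 : AddChar (Additive ↥(QT hφ)) ℂ)]
        · exact fun Λ _ hne => Nat.le_zero.1 (hc' Λ hne)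
        · simp
      · intro Λ _ hne
        rw [Nat.le_zero.1 (hc' Λ hne), Nat.cast_zero, zero_mul]
      · simp
    have h := sum_ddT hφ hc ρ hK ⟨_, two_mem hφ θ ((0 : F0 φ) : K) ((1 : F0 φ) : K)⟩
    rw [hz, Finset.sum_congr rfl fun v _ => vanishTwo hφ hc ρ hθ (Or.inr one_ne_zero) v,
      Finset.sum_const, Finset.card_univ, hcardF, nsmul_eq_mul] at h
    have h' := mul_left_cancel₀ hqC h
    have hw := hgw 0 (dw⁻¹)
    rw [mul_zero, haT0, one_mul, mul_inv_cancel₀ hdw] at hw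
    rw [← hw, ρ.char_conj, char_zT hφ ρ (inv_ne_zero hdw)] at h'
    rw [h'] at hqs
    exact hck (by linear_combination hqs)
  have hOrb : ∀ Λ, Λ ≠ 0 → 0 < ddT hφ ρ Λ → Orb φ (BT hφ hc Λ) := fun Λ h0 hd => by
    by_contra hG
    exact hsmall (hsum ▸ orbit_largeT hφ hc ρ hK h0 hd hG)
  have hreal : ∀ B, Orb φ B → ∃ Λ, BT hφ hc Λ = B ∧ ddT hφ ρ Λ = ddT hφ ρ Λ₁ := by
    rcases class_dichotomy hφ hc ρ hK hΛ₁ hd₁ with h | h
    · exact h
    · exact absurd (hsum ▸ h) hsmall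
  -- the multiplicity
  set O := Nat.card {B : Fin 20 → K // Orb φ B} with hOdef
  have hgr : (orbF φ).card = O := by
    rw [← Finset.filter_true_of_mem (s := orbF φ) (p := fun _ => True) fun _ _ => trivial, card_orbF, hOdef]
    exact Nat.card_congr (Equiv.subtypeEquivRight fun B => and_iff_left trivial)
  have hO : ((q : ℤ) - 1) * ((q : ℤ) ^ 9 + (q : ℤ) ^ 8 + (q : ℤ) ^ 6 + (q : ℤ) ^ 5 + (q : ℤ) ^ 4 +
      (q : ℤ) ^ 3 + q + 1) ≤ O := by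
    have h := Int.ofNat_le.2 (orb_card_ge hc hK)
    push_cast [Nat.cast_sub (show 1 ≤ q by omega)] at h
    exact h
  have hsle : ddT hφ ρ Λ₁ * O + ddT hφ ρ 0 ≤ s := by
    rw [← hsum, ← Finset.add_sum_erase _ _ (Finset.mem_univ (0 : AddChar (Additive ↥(QT hφ)) ℂ)),
      add_comm (ddT hφ ρ 0)]
    refine Nat.add_le_add_right ?_ _
    calc ddT hφ ρ Λ₁ * O = ∑ _B ∈ orbF φ, ddT hφ ρ Λ₁ := by
          rw [Finset.sum_const, hgr, smul_eq_mul, mul_comm]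
      _ = ∑ Λ ∈ (orbF φ).preimage (BT hφ hc) ((BT_injective hφ hc).injOn), ddT hφ ρ Λ₁ := by
          rw [Finset.sum_preimage (BT hφ hc) (orbF φ) _ (fun _ => ddT hφ ρ Λ₁) fun B hB hnot => ?_]
          obtain ⟨Λ, hΛ, -⟩ := hreal B (mem_orbF.1 hB)
          exact absurd ⟨Λ, hΛ⟩ hnot
      _ = ∑ Λ ∈ (orbF φ).preimage (BT hφ hc) ((BT_injective hφ hc).injOn), ddT hφ ρ Λ := by
          refine Finset.sum_congr rfl fun Λ hΛ => ?_
          obtain ⟨Λ', h1, h2⟩ := hreal _ (mem_orbF.1 (Finset.mem_preimage.1 hΛ))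
          rw [← BT_injective hφ hc h1, h2]
      _ ≤ _ := by
          refine Finset.sum_le_sum_of_subset fun Λ hΛ => Finset.mem_erase.2 ⟨?_, Finset.mem_univ _⟩
          rintro rfl
          have := mem_orbF.1 (Finset.mem_preimage.1 hΛ)
          rw [BT_zero] at this
          exact zero_not_orb this
  obtain ⟨hm1z, hd1z⟩ := degree_casesT hq2z hO (show (1 : ℤ) ≤ (ddT hφ ρ Λ₁ : ℤ) by exact_mod_cast hd₁)
    (Int.natCast_nonneg (ddT hφ ρ 0)) (by exact_mod_cast hsle) hm' hksZ hlt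
  obtain rfl : m = 1 := by exact_mod_cast hm1z
  have hd1 : ddT hφ ρ Λ₁ = 1 := by exact_mod_cast hd1z
  have hcl : ∀ Λ, Λ ≠ 0 → 0 < ddT hφ ρ Λ → Orb φ (BT hφ hc Λ) ∧ ddT hφ ρ Λ = 1 := fun Λ h0 hd => by
    obtain ⟨Λ', h1, h2⟩ := hreal _ (hOrb Λ h0 hd)
    exact ⟨hOrb Λ h0 hd, by rw [← BT_injective hφ hc h1, h2, hd1]⟩
  have hex : ∀ B, Orb φ B → ∃ Λ, BT hφ hc Λ = B ∧ ddT hφ ρ Λ = 1 := fun B hB => by
    obtain ⟨Λ', h1, h2⟩ := hreal B hB
    exact ⟨Λ', h1, h2.trans hd1⟩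
  have hsO : (s : ℂ) = (ddT hφ ρ 0 : ℂ) + (O : ℂ) := by
    have h := sum_charT hφ hc ρ hcl hex (fun _ => 1) (fun Λ => (ddT hφ ρ Λ : ℂ)) (mul_one _).symm
      (fun Λ _ h => by rw [h, Nat.cast_one]) (fun Λ h => by rw [h, Nat.cast_zero])
    rw [Finset.sum_const, hgr, nsmul_eq_mul, mul_one, mul_one] at h
    rw [← h, ← hsum, Nat.cast_sum]
  set d₀ := ddT hφ ρ 0 with hd0def
  have hsO' : (s : ℤ) = (d₀ : ℤ) + (O : ℤ) := by exact_mod_cast hsO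
  rcases levi_case hφ hc ρ hK (θ := θ) with hlev | hlev
  swap
  · -- one or two less than the bound
    have hd0' : (q : ℤ) ^ 5 - (q : ℤ) ^ 4 + (q : ℤ) ^ 3 - (q : ℤ) ^ 2 + q - 1 ≤ d₀ := by
      rw [← bnd_six (show 1 ≤ q by omega)]; exact_mod_cast hlev
    have hge : BT2 q - 2 ≤ k := by
      rw [hksZ, hsO', Nat.cast_one, mul_one]
      unfold BT2
      linear_combination hO + hd0'
    have hdvd : k ∣ Nat.card (GT hφ) :=
      Char.IsIrr.degree_dvd_card (Char.isIrrCharacter_of_rep ρ hρ) hχ1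
    have hN := Int.natCast_dvd_natCast.2 (hdvd.trans (Dvd.intro_left _ (e6_card_G1 φ hφ hqφ hq2 hK)))
    have hpos : ∀ e, 1 ≤ q ^ e := fun e => Nat.one_le_pow _ _ (by omega)
    simp only [Nat.cast_mul, Nat.cast_pow, Nat.cast_sub (hpos _), Nat.cast_add, Nat.cast_one] at hN
    have hN' : (k : ℤ) ∣ NT q := by
      convert hN using 1
      rw [NT]
      ring
    rcases (show (k : ℤ) = BT2 q - 2 ∨ (k : ℤ) = BT2 q - 1 by omega) with h | h
    · exact not_dvd_two hqp (h ▸ hN')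
    · exact not_dvd_one hq2 (h ▸ hN')
  -- counting with the test element
  set Fx := Nat.card {B : Fin 20 → K // Orb φ B ∧ FixT B} with hFxdef
  set Z2 := Nat.card {B : Fin 20 → K // Orb φ B ∧ (B 0 = 0 ∧ B 7 = 0)} with hZ2def
  set Zc := Nat.card {B : Fin 20 → K // Orb φ B ∧ ¬ (B 0 = 0 ∧ B 7 = 0)} with hZcdef
  have hFix0 : FixT (0 : Fin 20 → K) := fixT_of_zsupp fun n _ => rfl
  have hleft : ∀ t : F0 φ, t ≠ 0 →
      ∑ v, χ (aT hφ θ t * zT hφ v) = (q : ℂ) * ((d₀ : ℂ) + Fx) := by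
    intro t ht
    have h := trace_sumT hφ hc ρ hK (aT hφ θ t) 1
    simp only [lamH_one, one_mul, Subgroup.coe_one] at h
    rw [← h]
    obtain ⟨t0, tz, tG⟩ := trace_testT hφ hc ρ hθ hlev ht
    congr 1
    rw [sum_charT hφ hc ρ hcl hex (fun B => if FixT B then 1 else 0)
      (fun Λ => LinearMap.trace ℂ _ (ρ (aT hφ θ t) * PPT hφ ρ Λ)) (by rw [if_pos hFix0, mul_one, t0])
      (fun Λ hG h1 => by
        split_ifs with hf
        · exact (tG Λ hG h1).1 hf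
        · exact (tG Λ hG h1).2 hf)
      tz, if_pos hFix0, mul_one, Finset.sum_boole, card_orbF, hFxdef]
  have hright : ∑ u : F0 φ, ∑ w : F0 φ, χ (two hφ θ u w) =
      (q : ℂ) ^ 2 * ((d₀ : ℂ) + Z2) - s + k := by
    have hone : two hφ θ ((0 : F0 φ) : K) ((0 : F0 φ) : K) = 1 := by
      refine inG_injective hφ ?_
      rw [inG_two hφ hθ, map_one, ZeroMemClass.coe_zero, xs_zero, xs_zero, one_mul]
    have hv : ∀ p : F0 φ × F0 φ, p ≠ 0 →
        ∑ v, χ (two hφ θ p.1 p.2 * zT hφ v) = (q : ℂ) * χ (two hφ θ p.1 p.2) := by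
      intro p hp
      have hne : p.1 ≠ 0 ∨ p.2 ≠ 0 := by
        by_contra hn
        push Not at hn
        exact hp (Prod.ext hn.1 hn.2)
      rw [Finset.sum_congr rfl fun v _ => vanishTwo hφ hc ρ hθ hne v, Finset.sum_const,
        Finset.card_univ, hcardF, nsmul_eq_mul]
    have h1 : ∑ p : F0 φ × F0 φ, ∑ v, χ (two hφ θ p.1 p.2 * zT hφ v) =
        (q : ℂ) * s + (q : ℂ) * (∑ p : F0 φ × F0 φ, χ (two hφ θ p.1 p.2) - k) := by
      rw [← Finset.add_sum_erase _ _ (Finset.mem_univ (0 : F0 φ × F0 φ)),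
        ← Finset.add_sum_erase _ (fun p : F0 φ × F0 φ => χ (two hφ θ p.1 p.2))
          (Finset.mem_univ (0 : F0 φ × F0 φ))]
      simp only [Prod.fst_zero, Prod.snd_zero, hone, one_mul, hχ1, add_sub_cancel_left, Finset.mul_sum]
      rw [hs, Finset.sum_congr rfl fun p hp => hv p (Finset.ne_of_mem_erase hp)]
    have h2 : ∑ p : F0 φ × F0 φ, ∑ v, χ (two hφ θ p.1 p.2 * zT hφ v) =
        (q : ℂ) * ((q : ℂ) ^ 2 * ((d₀ : ℂ) + Z2)) := by
      rw [Finset.sum_congr rfl fun (p : F0 φ × F0 φ) _ =>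
        (sum_ddT hφ hc ρ hK ⟨_, two_mem hφ θ (p.1 : K) (p.2 : K)⟩).symm]
      rw [← Finset.mul_sum, Finset.sum_comm]
      congr 1
      have hΛ : ∀ Λ : AddChar (Additive ↥(QT hφ)) ℂ,
          ∑ p : F0 φ × F0 φ, (ddT hφ ρ Λ : ℂ) *
            lamH (piT hφ) Λ ⟨_, two_mem hφ θ (p.1 : K) (p.2 : K)⟩ =
          (ddT hφ ρ Λ : ℂ) * if BT hφ hc Λ 0 = 0 ∧ BT hφ hc Λ 7 = 0 then (q : ℂ) ^ 2 else 0 := by
        intro Λ
        rw [← Finset.mul_sum]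
        congr 1
        have e : ∀ p : F0 φ × F0 φ,
            lamH (piT hφ) Λ ⟨_, two_mem hφ θ (p.1 : K) (p.2 : K)⟩ =
              psiT φ (BT hφ hc Λ 0 * (θ * p.1)) * psiT φ (BT hφ hc Λ 7 * (θ * p.2)) := fun p => by
          rw [← BT_spec, ← BT_spec, ← lamH_mul]
          rfl
        rw [Finset.sum_congr rfl fun p _ => e p, Fintype.sum_prod_type]
        simp only []
        have r0 : φ (BT hφ hc Λ 0) = BT hφ hc Λ 0 := real_zero (BT_real hφ hc Λ) 0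
        have r7 : φ (BT hφ hc Λ 7) = BT hφ hc Λ 7 := real_zero (BT_real hφ hc Λ) 3
        rw [← Finset.sum_mul_sum, hc.sum_fixed (psiT_prim hc) (psiT_inv hc) hθ r0,
          hc.sum_fixed (psiT_prim hc) (psiT_inv hc) hθ r7, hcardF]
        by_cases h0 : BT hφ hc Λ 0 = 0 <;> by_cases h7 : BT hφ hc Λ 7 = 0 <;>
          simp [h0, h7, pow_two]
      rw [Finset.sum_congr rfl fun Λ _ => hΛ Λ]
      rw [sum_charT hφ hc ρ hcl hex (fun B => if B 0 = 0 ∧ B 7 = 0 then (q : ℂ) ^ 2 else 0) _ ?_ ?_ ?_,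
        ← Finset.sum_filter, Finset.sum_const, card_orbF, nsmul_eq_mul, ← hZ2def]
      · simp only [Pi.zero_apply, and_self, if_true]
        ring
      · rw [BT_zero]
      · intro Λ _ h1
        rw [h1, Nat.cast_one, one_mul]
      · intro Λ h
        rw [h, Nat.cast_zero, zero_mul]
    rw [h2] at h1
    rw [Fintype.sum_prod_type] at h1
    refine mul_left_cancel₀ hqC ?_
    linear_combination -h1
  have hswap : ∑ t : F0 φ, ∑ v, χ (aT hφ θ t * zT hφ v) =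
      ∑ u : F0 φ, ∑ w : F0 φ, χ (two hφ θ u w) := by
    refine Fintype.sum_equiv (Equiv.mulLeft₀ cw hcw) _ _ fun t => ?_
    refine Fintype.sum_equiv (Equiv.mulLeft₀ dw hdw) _ _ fun v => ?_
    rw [Equiv.mulLeft₀_apply, Equiv.mulLeft₀_apply, ← hgw, hχ, ρ.char_conj]
  have hl : ∑ t : F0 φ, ∑ v, χ (aT hφ θ t * zT hφ v) =
      (q : ℂ) * s + ((q : ℂ) - 1) * ((q : ℂ) * ((d₀ : ℂ) + Fx)) := by
    rw [← Finset.add_sum_erase _ _ (Finset.mem_univ (0 : F0 φ)),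
      Finset.sum_congr rfl fun t ht => hleft t (Finset.ne_of_mem_erase ht), Finset.sum_const,
      Finset.card_erase_of_mem (Finset.mem_univ _), Finset.card_univ, hcardF, nsmul_eq_mul,
      Nat.cast_sub (by omega : 1 ≤ q), Nat.cast_one]
    congr 1
    rw [Finset.sum_congr rfl fun v _ => by rw [haT0, one_mul]]
    exact hs
  have hkC : (k : ℂ) = s + ((q : ℂ) - 1) * ((q : ℂ) ^ 10) := by
    rw [hks, mul_one, Nat.cast_add, Nat.cast_mul, Nat.cast_sub (by omega : 1 ≤ q), Nat.cast_one,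
      Nat.cast_pow]
  have hfin : ((O : ℤ) + ((q : ℤ) - 1) * Fx) = (q : ℤ) * Z2 + ((q : ℤ) - 1) * (q : ℤ) ^ 9 := by
    have h : (q : ℂ) * ((O : ℂ) + ((q : ℂ) - 1) * Fx) =
        (q : ℂ) * ((q : ℂ) * Z2 + ((q : ℂ) - 1) * (q : ℂ) ^ 9) := by
      rw [hswap, hright] at hl
      linear_combination -hl + hkC - (q : ℂ) * hsO
    have h' := mul_left_cancel₀ hqC h
    exact_mod_cast h'
  have hsplit : (Z2 : ℤ) + Zc = O := by
    have h := card_split (α := Fin 20 → K) (Orb φ) (fun B => B 0 = 0 ∧ B 7 = 0)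
    exact_mod_cast h
  have hZc : ((q : ℤ) - 1) * ((q : ℤ) ^ 9 + ((q : ℤ) ^ 8 - (q : ℤ) ^ 7) + ((q : ℤ) ^ 6 - (q : ℤ) ^ 5) +
      (q : ℤ) ^ 5) ≤ Zc := by
    have h := Int.ofNat_le.2 (orb_card_c0 (φ := φ) hc hK)
    push_cast [Nat.cast_sub (show 1 ≤ q by omega),
      Nat.cast_sub (Nat.pow_le_pow_right (show 0 < q by omega) (show 7 ≤ 8 by norm_num)),
      Nat.cast_sub (Nat.pow_le_pow_right (show 0 < q by omega) (show 5 ≤ 6 by norm_num))] at h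
    exact h
  have hFx : ((q : ℤ) - 1) * ((q : ℤ) ^ 4 + (q : ℤ) ^ 3 + q + 1) ≤ Fx := by
    have h := Int.ofNat_le.2 (orb_card_fix (φ := φ) hc hK)
    push_cast [Nat.cast_sub (show 1 ≤ q by omega)] at h
    exact h
  have hO' := fix_large hq2z hsplit hZc hFx hfin
  rw [hksZ, hsO', Nat.cast_one, mul_one] at hlt
  linarith [Int.natCast_nonneg d₀]

end Cfsg.Agent.E6Tw
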