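import Cfsg.Agent.E6Tw.Dichotomy

/-!
Lower bounds for the numbers of points of the orbit.
-/

set_option autoImplicit false
set_option maxRecDepth 100000

namespace Cfsg.Agent.E6Tw

open Cfsg.Agent.E6Deg

universe u

theorem chk_len : ∀ c : Fin 8, cLen c = ([9, 8, 6, 5, 4, 3, 1, 0] : List ℕ).getD c.1 0 := by
  decide +kernel

theorem chk_seven : (∀ c k, cTgt c k = 7 ↔ cTgt c (cTau c k) = 7) ∧
    (∀ c : Fin 8, (cN c = 0 ∨ cN c = 7) ↔ (c = 0 ∨ c = 3)) ∧
    ∀ c : Fin 8, (Finset.univ.filter fun k => cTgt c k ≠ 7).card =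
      ([9, 7, 5, 5, 4, 3, 1, 0] : List ℕ).getD c.1 0 := by
  decide +kernel

theorem chk_inner : (∀ c : Fin 8, zS (cN c) ↔ c.1 < 4) ∧
    ∀ c : Fin 8, c.1 < 4 → (Finset.univ.filter fun k => Inner (cP c k).1 (cP c k).2).card =
      ([4, 3, 1, 0] : List ℕ).getD c.1 0 := by
  decide +kernel

variable {K : Type u} [Field K] {φ : K →+* K} [Fintype K] (hc : IsConj φ) {q : ℕ}
  (hK : Fintype.card K = q ^ 2)

include hc hK

/-- Parameters supported on a set of pairs. -/
theorem card_RV_sub (c : Fin 8) (P : Fin (cLen c) → Prop) [DecidablePred P]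
    (hP : ∀ k, P k ↔ P (cTau c k)) :
    Nat.card {t : Fin (cLen c) → K // t ∈ RV φ (cTau c) (kapV K c) ∧ ∀ k, ¬ P k → t k = 0} =
      q ^ (Finset.univ.filter P).card := by
  classical
  let s : {k // P k} → {k // P k} := fun k => ⟨cTau c k, (hP k).1 k.2⟩
  let κ : {k // P k} → K := fun k => kapV K c k
  have h := hc.card_RV hK (s := s) (κ := κ) fun k =>
    ⟨Subtype.ext (cell_inv (φ := φ) c k.1).1, (cell_inv (φ := φ) c k.1).2⟩
  rw [Fintype.card_subtype] at h
  rw [← h]
  refine Nat.card_congr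
    { toFun := fun t => ⟨fun k => t.1 k.1, fun k => t.2.1 k.1⟩
      invFun := fun t => ⟨fun k => if hk : P k then t.1 ⟨k, hk⟩ else 0, fun k => ?_,
        fun k hk => dif_neg hk⟩
      left_inv := fun t => Subtype.ext (funext fun k => ?_)
      right_inv := fun t => Subtype.ext (funext fun k => dif_pos k.2) }
  · by_cases hk : P k
    · show dite _ _ _ = kapV K c k * φ (dite _ _ _)
      rw [dif_pos hk, dif_pos ((hP k).1 hk)]
      exact t.2 ⟨k, hk⟩
    · show dite _ _ _ = kapV K c k * φ (dite _ _ _)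
      rw [dif_neg hk, dif_neg (mt (hP k).2 hk), map_zero, mul_zero]
  · show (if hk : P k then t.1 k else 0) = t.1 k
    split_ifs with hk
    · rfl
    · exact (t.2.2 k hk).symm

theorem card_RVc (c : Fin 8) : Nat.card ↥(RV φ (cTau c) (kapV K c)) = q ^ cLen c := by
  rw [hc.card_RV hK (cell_inv c), Fintype.card_fin]

/-- The number of points of the orbit is at least the number of the points of all cells. -/
theorem orb_card_ge :
    (q - 1) * (q ^ 9 + q ^ 8 + q ^ 6 + q ^ 5 + q ^ 4 + q ^ 3 + q + 1) ≤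
      Nat.card {B : Fin 20 → K // Orb φ B} := by
  obtain ⟨θ, hθ⟩ := hc.exists_theta
  have h := orb_count (P := fun _ => True) hθ (fun c => (RV φ (cTau c) (kapV K c) : Set _))
    (fun _ _ ht => ht) fun _ _ _ _ => trivial
  have e : ∀ c, Nat.card ↥(RV φ (cTau c) (kapV K c) : Set (Fin (cLen c) → K)) = q ^ cLen c := fun c => by
    show Nat.card ↥(RV φ (cTau c) (kapV K c)) = _
    rw [hc.card_RV hK (cell_inv c), Fintype.card_fin]
  rw [card_RU hc hK, Finset.sum_congr rfl fun c _ => e c] at h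
  simp only [chk_len, Fin.sum_univ_eight, List.getD_eq_getElem?_getD] at h
  refine le_trans (le_of_eq ?_) (h.trans (le_of_eq (Nat.card_congr
    (Equiv.subtypeEquivRight fun B => and_iff_left trivial))))
  simp

/-- The points with one of the coordinates `0`, `7` not zero. -/
theorem orb_card_c0 :
    (q - 1) * (q ^ 9 + (q ^ 8 - q ^ 7) + (q ^ 6 - q ^ 5) + q ^ 5) ≤
      Nat.card {B : Fin 20 → K // Orb φ B ∧ ¬ (B 0 = 0 ∧ B 7 = 0)} := by
  classical
  obtain ⟨θ, hθ⟩ := hc.exists_theta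
  let W : ∀ c, Set (Fin (cLen c) → K) := fun c =>
    {t | t ∈ RV φ (cTau c) (kapV K c) ∧ ((c = 0 ∨ c = 3) ∨ ∃ k, cTgt c k = 7 ∧ t k ≠ 0)}
  have h := orb_count (P := fun B => ¬ (B 0 = 0 ∧ B 7 = 0)) hθ W (fun _ _ ht => ht.1)
    fun c t ht α => by
      rcases ht.2 with hc' | ⟨k, hk, htk⟩
      · rcases (chk_seven.2.1 c).2 hc' with e | e
        · exact fun h => α.2.2 (by rw [← cellPt_n θ c t (α : K) (φ := φ), e]; exact h.1)
        · exact fun h => α.2.2 (by rw [← cellPt_n θ c t (α : K) (φ := φ), e]; exact h.2)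
      · refine fun h => htk ?_
        have := cellPt_tgt hθ ht.1 (α : K) k
        rw [hk, h.2] at this
        exact (mul_eq_zero.1 this.symm).resolve_right
          (mul_ne_zero (sg_ne (chk_cell_tau c k).2.2.1) α.2.2)
  have e : ∀ c, Nat.card ↥(W c) = if c = 0 ∨ c = 3 then q ^ cLen c else
      q ^ cLen c - q ^ (Finset.univ.filter fun k => cTgt c k ≠ 7).card := by
    intro c
    split_ifs with h0
    · refine Eq.trans ?_ (card_RVc hc hK c)
      exact Nat.card_congr (Equiv.subtypeEquivRight fun t => ⟨fun ht => ht.1, fun ht => ⟨ht, Or.inl h0⟩⟩)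
    · have hs := card_split (α := Fin (cLen c) → K) (fun t => t ∈ RV φ (cTau c) (kapV K c))
        (fun t => ∀ k, ¬ cTgt c k ≠ 7 → t k = 0)
      rw [card_RV_sub hc hK c (fun k => cTgt c k ≠ 7) fun k => not_congr (chk_seven.1 c k)] at hs
      have e1 : Nat.card {t : Fin (cLen c) → K // t ∈ RV φ (cTau c) (kapV K c)} = q ^ cLen c :=
        card_RVc hc hK c
      rw [e1] at hs
      have e2 : Nat.card ↥(W c) = Nat.card {t : Fin (cLen c) → K //
          t ∈ RV φ (cTau c) (kapV K c) ∧ ¬ ∀ k, ¬ cTgt c k ≠ 7 → t k = 0} :=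
        Nat.card_congr (Equiv.subtypeEquivRight fun t => by simp [W, h0])
      omega
  rw [card_RU hc hK, Finset.sum_congr rfl fun c _ => e c] at h
  simp only [chk_len, chk_seven.2.2, Fin.sum_univ_eight, List.getD_eq_getElem?_getD] at h
  refine le_trans (le_of_eq ?_) h
  simp

/-- The points fixed by the test element. -/
theorem orb_card_fix :
    (q - 1) * (q ^ 4 + q ^ 3 + q + 1) ≤ Nat.card {B : Fin 20 → K // Orb φ B ∧ FixT B} := by
  classical
  obtain ⟨θ, hθ⟩ := hc.exists_theta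
  let W : ∀ c, Set (Fin (cLen c) → K) := fun c =>
    {t | c.1 < 4 ∧ (t ∈ RV φ (cTau c) (kapV K c) ∧ ∀ k, ¬ Inner (cP c k).1 (cP c k).2 → t k = 0)}
  have h := orb_count (P := FixT) hθ W (fun _ _ ht => ht.2.1) fun c t ht α => by
    refine fixT_of_zsupp (trvT_mem (S := {B | ZSupp B}) c _ (fun k hk B hB => ?_) _ _ ?_)
    · exact opT_zsupp (chk_cell c k).1 (by_contra fun hI => hk (by rw [ht.2.2 k hI, mul_zero])) _ hB
    · intro n hn
      exact Pi.single_eq_of_ne (fun e : n = cN c => hn (e ▸ (chk_inner.1 c).2 ht.1)) _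
  have e : ∀ c, Nat.card ↥(W c) = if c.1 < 4 then
      q ^ (Finset.univ.filter fun k => Inner (cP c k).1 (cP c k).2).card else 0 := by
    intro c
    split_ifs with h0
    · rw [← card_RV_sub hc hK c (fun k => Inner (cP c k).1 (cP c k).2) (chk_z.2.2.2.1 c)]
      exact Nat.card_congr (Equiv.subtypeEquivRight fun t => ⟨fun ht => ht.2, fun ht => ⟨h0, ht⟩⟩)
    · haveI : IsEmpty ↥(W c) := ⟨fun t => h0 t.2.1⟩
      exact Nat.card_of_isEmpty
  rw [card_RU hc hK, Finset.sum_congr rfl fun c _ => e c] at h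
  have e' : ∀ c : Fin 8, (if c.1 < 4 then
      q ^ (Finset.univ.filter fun k => Inner (cP c k).1 (cP c k).2).card else 0) =
      if c.1 < 4 then q ^ ([4, 3, 1, 0] : List ℕ).getD c.1 0 else 0 := fun c => by
    split_ifs with h0
    · rw [chk_inner.2 c h0]
    · rfl
  rw [Finset.sum_congr rfl fun c _ => e' c] at h
  simp only [Fin.sum_univ_eight, List.getD_eq_getElem?_getD] at h
  refine le_trans (le_of_eq ?_) h
  simp

end Cfsg.Agent.E6Tw
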