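import Cfsg.Agent.E6Tw.Ops
import Cfsg.Agent.E6Deg.Count

/-!
Orbits of the fixed operations: the dichotomy, the points fixed by the test element, and counts.
-/

set_option autoImplicit false
set_option maxRecDepth 100000

namespace Cfsg.Agent.E6Tw

open Matrix Cfsg.Agent.E6Deg

universe u

theorem chk_idx2 : (∀ l, ∃ k, cTgt 0 k = idx2 l) ∧ (∀ k, ∃ l, cTgt 0 k = idx2 l) := by
  decide +kernel

theorem chk_blocks : ∀ i j : Fin 6, i ≠ j → (i.val < 3 ↔ j.val < 3) → opTgt i j 0 = none ∧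
    ∀ l, ∀ x ∈ opTgt i j (idx2 l), ∃ m, x.1 = idx2 m := by
  decide +kernel

theorem chk_right : ∀ a b : Fin 3, a ≠ b →
    ((lft b).rev.val < 3 ↔ (lft a).rev.val < 3) ∧
    ∀ d P, P ≠ b → opTgt (lft b).rev (lft a).rev (idx1 d P) = none := by
  decide +kernel

theorem chk_low32 : (∀ x ∈ opTgt 3 2 0, ∃ m, x.1 = idx2 m) ∧
    (∀ l, ∀ x ∈ opTgt 3 2 (idx2 l), (∃ m, x.1 = idx2 m) ∨ ∃ a P, x.1 = idx1 a P) ∧
    (opTgt 3 2 (idx1 2 2) = some (19, 1) ∨ opTgt 3 2 (idx1 2 2) = some (19, -1)) := by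
  decide +kernel

/-- The coordinates containing the first index but not the last. -/
def zS (n : Fin 20) : Prop := (∃ x, tri n x = 0) ∧ ∀ x, tri n x ≠ 5

instance : DecidablePred zS := fun _ => instDecidableAnd

/-- A pair away from the first and the last index. -/
def Inner (i j : Fin 6) : Prop := i ≠ 0 ∧ i ≠ 5 ∧ j ≠ 0 ∧ j ≠ 5

instance (i j : Fin 6) : Decidable (Inner i j) := instDecidableAnd

set_option synthInstance.maxSize 4000 in
set_option synthInstance.maxHeartbeats 400000 in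
theorem chk_z : (∀ i j : Fin 6, i ≠ j → Inner i j → ∀ n, ¬ zS n → ∀ x ∈ opTgt i j n, ¬ zS x.1) ∧
    (∀ n, zS n → n ≠ 0 → ∃ n', n' < n ∧ zS n' ∧ ∃ i j, i ≠ j ∧ Inner i j ∧
      (opTgt i j n' = some (n, 1) ∨ opTgt i j n' = some (n, -1))) ∧
    (∀ k, ¬ Inner (cP 0 k).1 (cP 0 k).2 → ¬ zS (cTgt 0 k)) ∧
    (∀ c k, Inner (cP c k).1 (cP c k).2 ↔ Inner (cP c (cTau c k)).1 (cP c (cTau c k)).2) ∧
    (∀ i j : Fin 6, Inner i j → Inner j.rev i.rev) ∧
    (∀ n, ∀ x ∈ opTgt 5 0 n, ¬ zS x.1) ∧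
    (∀ n, ¬ zS n → (∀ x, tri n x ≠ 0) ∨ ∃ x, tri n x = 5) ∧
    (∀ n, (∀ x, tri n x ≠ 0) → ∃ x, tri (sS n) x = 5) ∧
    (∀ n, (∃ x, tri n x = 5) → ∀ x, tri (sS n) x ≠ 0) := by
  decide +kernel

theorem chk_cramer : ∀ r : Fin 3, ∀ c : Fin 6, c ≠ tri 0 r →
    ∀ x ∈ tsg (Function.update (tri 0) r c), ∃ l, x.1 = idx2 l := by
  decide +kernel

variable {K : Type u} [Field K] {φ : K →+* K}

theorem real_zero {B : Fin 20 → K} (hB : RealB φ B) (c : Fin 8) : φ (B (cN c)) = B (cN c) := by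
  have h := hB (cN c)
  rw [(chk_centre.1 c).1, (chk_centre.1 c).2, Int.cast_one, one_mul] at h
  exact h.symm

/-- The parameters that clear the moved coordinates. -/
theorem clear_mem {B : Fin 20 → K} (hB : RealB φ B) :
    (fun k => -B (cTgt 0 k) / ((cSg 0 k : K) * B 0)) ∈ RV φ (cTau 0) (kapV K 0) := by
  rw [mem_RV]
  intro k
  obtain ⟨h1, h2, -, -, h5, h6⟩ := chk_cell_tau 0 k
  have hs : ∀ m, (cSg 0 m : K) ^ 2 = 1 := fun m => by
    rcases (chk_cell_tau 0 m).2.2.1 with e | e <;> simp [e]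
  have hsne : ∀ m, (cSg 0 m : K) ≠ 0 := fun m => sg_ne (chk_cell_tau 0 m).2.2.1
  have e6 : (lam (cTgt 0 k) : K) * cSg 0 (cTau 0 k) = cKap 0 k * cSg 0 k := by
    rw [← Int.cast_mul, ← Int.cast_mul, h6]
  have hk := hB (cTgt 0 k)
  rw [h5] at hk
  have h0 : φ (B 0) = B 0 := real_zero hB 0
  show -B (cTgt 0 k) / _ = (cKap 0 k : K) * φ (-B (cTgt 0 (cTau 0 k)) / _)
  rw [map_div₀, map_neg, map_mul, map_intCast, h0, hk]
  by_cases hb : B 0 = 0
  · simp [hb]
  · field_simp [hsne k, hsne (cTau 0 k), hb]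
    linear_combination -(φ (B (cTgt 0 (cTau 0 k)))) * e6

/-- Nonzero first coordinate. -/
theorem exists_topT (hc : IsConj φ) {S : Set (Fin 20 → K)} (hS : ClosedT φ S) :
    ∀ (n : Fin 20), ∀ B ∈ S, B n ≠ 0 → ∃ B' ∈ S, B' 0 ≠ 0 := by
  intro n
  induction n using WellFoundedLT.induction with
  | _ n ih =>
    intro B hB hn
    by_cases h0 : n = 0
    · exact ⟨B, hB, h0 ▸ hn⟩
    obtain ⟨n', hlt, i, j, hij, h⟩ := lower_tgt n h0
    obtain ⟨c, hc'⟩ := raise hc h hn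
    exact ih n' hlt _ (hS i j hij c B hB) hc'

/-- No coordinate of rank two, first coordinate `α`. -/
def Nm (S : Set (Fin 20 → K)) (α : K) : Set (Fin 20 → K) :=
  {B | B ∈ S ∧ B 0 = α ∧ ∀ l, B (idx2 l) = 0}

theorem op_nm {i j : Fin 6} (hij : i ≠ j) (hb : i.val < 3 ↔ j.val < 3) (c : K) {B : Fin 20 → K} {α : K}
    (h0 : B 0 = α) (h2 : ∀ l, B (idx2 l) = 0) :
    op i j c B 0 = α ∧ ∀ l, op i j c B (idx2 l) = 0 := by
  obtain ⟨g0, g2⟩ := chk_blocks i j hij hb
  refine ⟨by simp [op, g0, ev_none, h0], fun l => ?_⟩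
  simp only [op]
  cases h : opTgt i j (idx2 l) with
  | none => simp [ev_none, h2]
  | some x =>
    obtain ⟨m, hm⟩ := g2 l x (by rw [h]; rfl)
    obtain ⟨x, s⟩ := x
    subst hm
    simp [ev_some, h2]

theorem lft_small : ∀ a : Fin 3, (lft a).val < 3 := fun a => a.2

theorem block_nm {S : Set (Fin 20 → K)} (hS : ClosedT φ S) {α : K} {B : Fin 20 → K}
    (hB : B ∈ Nm S α) {a b : Fin 3} (hab : a ≠ b) (c : K) :
    opT φ (lft a) (lft b) c B ∈ Nm S α := by
  have h1 := op_nm (lft_ne a b hab) (iff_of_true (lft_small a) (lft_small b)) c hB.2.1 hB.2.2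
  exact ⟨hS _ _ (lft_ne a b hab) c B hB.1,
    op_nm (rev_ne (lft_ne a b hab)) (chk_right a b hab).1 _ h1.1 h1.2⟩

theorem block_val (B : Fin 20 → K) {a b : Fin 3} (hab : a ≠ b) (c : K) :
    opT φ (lft a) (lft b) c B (idx1 b a) = B (idx1 b a) + c * B (idx1 a a) := by
  rw [opT]
  show op _ _ _ (op _ _ c B) (idx1 b a) = _
  rw [op, (chk_right a b hab).2 b a hab, ev_none, mul_zero, add_zero, block_idx1 B hab, if_pos rfl]

/-- The dichotomy. -/
theorem dichotomyT [Fintype K] (hc : IsConj φ) {q : ℕ} (hK : Fintype.card K = q ^ 2)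
    {S : Set (Fin 20 → K)} (hS : ClosedT φ S) (hR : ∀ B ∈ S, RealB φ B) {B : Fin 20 → K}
    (hB : B ∈ S) (hne : B ≠ 0) :
    (∃ α, φ α = α ∧ α ≠ 0 ∧ seed 0 α ∈ S) ∨ q ^ 11 ≤ Nat.card S := by
  classical
  obtain ⟨θ, hθ⟩ := hc.exists_theta
  obtain ⟨n, hn⟩ := Function.ne_iff.1 hne
  obtain ⟨B₁, hB₁, h1⟩ := exists_topT hc hS n B hB hn
  set α := B₁ 0 with hα
  set t : Fin (cLen 0) → K := fun k => -B₁ (cTgt 0 k) / ((cSg 0 k : K) * B₁ 0) with ht
  have htm : t ∈ RV φ (cTau 0) (kapV K 0) := clear_mem (hR B₁ hB₁)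
  have hsα : ∀ m, (cSg 0 m : K) * α ≠ 0 := fun m =>
    mul_ne_zero (sg_ne (chk_cell_tau 0 m).2.2.1) h1
  have hmem : ∀ (u : Fin (cLen 0) → K) {B}, B ∈ S → trR φ θ 0 u B ∈ S := fun u B hB =>
    trvT_mem 0 _ (fun k _ => hS _ _ (chk_cell 0 k).1 _) _ B hB
  set B₂ := trR φ θ 0 t B₁ with hB₂d
  have hB₂ : B₂ ∈ Nm S α := by
    refine ⟨hmem t hB₁, trR_n θ 0 t B₁, fun l => ?_⟩
    obtain ⟨k, hk⟩ := chk_idx2.1 l
    rw [← hk, hB₂d, trR_tgt hθ 0 htm, show B₁ (cN 0) = α from rfl, ht]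
    show B₁ (cTgt 0 k) + -B₁ (cTgt 0 k) / ((cSg 0 k : K) * α) * ((cSg 0 k : K) * α) = 0
    rw [div_mul_cancel₀ _ (hsα k), add_neg_cancel]
  have large : ∀ {B₃}, B₃ ∈ Nm S α → ∀ a, B₃ (idx1 a a) ≠ 0 → q ^ 11 ≤ Nat.card S := by
    intro B₃ h3 a ha
    obtain ⟨b, -, hb, -, -⟩ := others a
    let g : ↥(RV φ (cTau 0) (kapV K 0)) × K → S := fun x =>
      ⟨trR φ θ 0 x.1.1 (opT φ (lft a) (lft b) x.2 B₃), hmem _ (block_nm hS h3 hb.symm x.2).1⟩
    have hg : Function.Injective g := by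
      rintro ⟨u, c⟩ ⟨u', c'⟩ h
      have h' : trR φ θ 0 u.1 (opT φ (lft a) (lft b) c B₃) =
          trR φ θ 0 u'.1 (opT φ (lft a) (lft b) c' B₃) := congrArg Subtype.val h
      have huu : u = u' := Subtype.ext (funext fun m => by
        obtain ⟨l, hl⟩ := chk_idx2.2 m
        have hN := block_nm hS h3 hb.symm c
        have hN' := block_nm hS h3 hb.symm c'
        have := congrFun h' (cTgt 0 m)
        rw [trR_tgt hθ 0 u.2, trR_tgt hθ 0 u'.2, hl, hN.2.2, hN'.2.2, zero_add, zero_add,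
          show cN 0 = 0 from rfl, hN.2.1, hN'.2.1] at this
        exact mul_right_cancel₀ (hsα m) this)
      subst huu
      have e := congrFun (trvT_injective 0 _ _ h') (idx1 b a)
      rw [block_val B₃ hb.symm, block_val B₃ hb.symm, add_right_inj] at e
      exact Prod.ext rfl (mul_right_cancel₀ ha e)
    have h := Nat.card_le_card_of_injective g hg
    rw [Nat.card_prod, hc.card_RV hK (cell_inv 0), Fintype.card_fin, Nat.card_eq_fintype_card,
      hK, ← pow_add] at h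
    exact h
  have large' : ∀ {B₃}, B₃ ∈ Nm S α → ∀ a P, B₃ (idx1 a P) ≠ 0 → q ^ 11 ≤ Nat.card S := by
    intro B₃ h3 a P ha
    by_cases hab : a = P
    · subst hab; exact large h3 a ha
    · have h := ((opTgt_block a P hab).2.2 P P).trans (if_pos rfl)
      obtain ⟨c, hc'⟩ := raise hc (φ := φ) (Or.inl h) ha
      exact large (block_nm hS h3 hab c) P hc'
  by_cases hr1 : ∃ a P, B₂ (idx1 a P) ≠ 0
  · obtain ⟨a, P, h⟩ := hr1
    exact Or.inr (large' hB₂ a P h)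
  push Not at hr1
  by_cases h19 : B₂ 19 = 0
  · refine Or.inl ⟨α, real_zero (hR B₁ hB₁) 0, h1, ?_⟩
    have e : seed 0 α = B₂ := funext fun m => by
      rcases cover m with h | h | ⟨l, rfl⟩ | ⟨a, P, rfl⟩
      · subst h; rw [seed, hB₂.2.1]; exact Pi.single_eq_same (M := fun _ => K) _ _
      · rw [h, h19, seed]; exact Pi.single_eq_of_ne (by decide) _
      · rw [hB₂.2.2 l, seed]
        exact Pi.single_eq_of_ne ((by decide +kernel : ∀ l, idx2 l ≠ cN 0) l) _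
      · rw [hr1 a P, seed]
        exact Pi.single_eq_of_ne ((by decide +kernel : ∀ a P, idx1 a P ≠ cN 0) a P) _
    rw [e]; exact hB₂.1
  · obtain ⟨hA, hC, hD⟩ := chk_low32
    obtain ⟨c, hc'⟩ := raise hc (φ := φ) hD h19
    refine Or.inr (large (B₃ := opT φ 3 2 c B₂) ⟨hS _ _ (by decide) c _ hB₂.1, ?_, fun l => ?_⟩ 2 hc')
    · rw [opT, show ((2 : Fin 6).rev) = 3 from rfl, show ((3 : Fin 6).rev) = 2 from rfl,
        op_op _ _ (by decide), op]
      cases h : opTgt 3 2 0 with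
      | none => simp [ev_none, hB₂.2.1]
      | some x =>
        obtain ⟨m, hm⟩ := hA x (by rw [h]; rfl)
        obtain ⟨x, s⟩ := x
        subst hm
        simp [ev_some, hB₂.2.1, hB₂.2.2]
    · rw [opT, show ((2 : Fin 6).rev) = 3 from rfl, show ((3 : Fin 6).rev) = 2 from rfl,
        op_op _ _ (by decide), op]
      cases h : opTgt 3 2 (idx2 l) with
      | none => simp [ev_none, hB₂.2.2]
      | some x =>
        obtain ⟨x, s⟩ := x
        rcases hC l _ (by rw [h]; rfl) with ⟨m, hm⟩ | ⟨a, P, hm⟩ <;> subst hm <;>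
          simp [ev_some, hB₂.2.2, hr1]

/-! ### The test element -/

/-- The points fixed by the test element. -/
def FixT (B : Fin 20 → K) : Prop := ∀ n, ev B (opTgt 5 0 n) = 0

/-- Supported on the coordinates containing the first index but not the last. -/
def ZSupp (B : Fin 20 → K) : Prop := ∀ n, ¬ zS n → B n = 0

theorem fixT_of_zsupp {B : Fin 20 → K} (h : ZSupp B) : FixT B := fun n => by
  cases hx : opTgt 5 0 n with
  | none => rfl
  | some x =>
    have := chk_z.2.2.2.2.2.1 n x (by rw [hx]; rfl)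
    obtain ⟨x, s⟩ := x
    simp [ev_some, h x this]

theorem op_zsupp {i j : Fin 6} (hij : i ≠ j) (hI : Inner i j) (c : K) {B : Fin 20 → K}
    (h : ZSupp B) : ZSupp (op i j c B) := fun n hn => by
  simp only [op, h n hn, zero_add]
  cases hx : opTgt i j n with
  | none => simp [ev_none]
  | some x =>
    have := chk_z.1 i j hij hI n hn x (by rw [hx]; rfl)
    obtain ⟨x, s⟩ := x
    simp [ev_some, h x this]

theorem opT_zsupp {i j : Fin 6} (hij : i ≠ j) (hI : Inner i j) (c : K) {B : Fin 20 → K}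
    (h : ZSupp B) : ZSupp (opT φ i j c B) :=
  op_zsupp (rev_ne hij) (chk_z.2.2.2.2.1 i j hI) _ (op_zsupp hij hI c h)

theorem fixM_gen [DecidableEq K] {M : Matrix (Fin 3) (Fin 6) K} (hM : LI M) {i j : Fin 6}
    (hij : i ≠ j) (h : ∀ n, ev (p M) (opTgt i j n) = 0) :
    (∀ r, M r i = 0) ∨ ¬ LI (M.submatrix id j.succAbove) := by
  by_contra hc
  push Not at hc
  obtain ⟨⟨a, ha⟩, hli⟩ := hc
  obtain ⟨s, hs⟩ := fibre hM (M' := M * Matrix.transvection i j (1 : K)) (by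
    rw [p_mul_transvection M hij 1]
    funext n
    simp [op, h n])
  let z : Fin 3 → K := fun b => s.1 a b - (1 : Matrix (Fin 3) (Fin 3) K) a b
  have hz : ∀ c, (z ᵥ* M) c = if c = j then M a i else 0 := by
    intro c
    have h1 := congrFun (congrFun hs a) c
    rw [Matrix.transvection, Matrix.mul_add, Matrix.mul_one, Matrix.add_apply] at h1
    have h2 : (z ᵥ* M) c = (s.1 * M) a c - M a c := by
      show ((fun b => s.1 a b) - fun b => (1 : Matrix (Fin 3) (Fin 3) K) a b) ⬝ᵥ (fun b => M b c) = _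
      rw [sub_dotProduct]
      congr 1
      show ((1 : Matrix (Fin 3) (Fin 3) K) * M) a c = M a c
      rw [Matrix.one_mul]
    rw [h2, ← h1, add_sub_cancel_left]
    by_cases hj : c = j
    · subst hj; rw [if_pos rfl, Matrix.mul_single_apply_same, mul_one]
    · rw [if_neg hj, Matrix.mul_single_apply_of_ne _ _ _ _ _ hj]
  have hz0 : z = 0 := by
    rw [li_iff] at hli
    refine hli z (funext fun c => ?_)
    exact (hz _).trans (if_neg (Fin.succAbove_ne _ _))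
  have := hz j
  rw [hz0, zero_vecMul, Pi.zero_apply, if_pos rfl] at this
  exact ha this.symm

theorem zsupp_of_fix [DecidableEq K] {B : Fin 20 → K} (hG : B ∈ Gr K) (hR : RealB φ B)
    (hF : FixT B) : ZSupp B := by
  obtain ⟨-, -, -, -, -, -, g1, g2, g3⟩ := chk_z
  obtain ⟨M, hM, rfl⟩ := hG
  have hr : ∀ n, p M (sS n) = 0 → p M n = 0 := fun n h => by rw [hR n, h, map_zero, mul_zero]
  rcases fixM_gen hM (show (5 : Fin 6) ≠ 0 by decide) hF with h5 | h0
  · have h : ∀ n, (∃ x, tri n x = 5) → p M n = 0 := fun n ⟨x, hx⟩ =>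
      det_eq_zero_of_column_eq_zero x fun r => by simp [hx, h5]
    intro n hn
    rcases g1 n hn with h' | h'
    · exact hr n (h _ (g2 n h'))
    · exact h n h'
  · have h : ∀ n, (∀ x, tri n x ≠ 0) → p M n = 0 := fun n hn => by
      rw [li_iff] at h0
      push Not at h0
      obtain ⟨y, hy, hy0⟩ := h0
      refine exists_vecMul_eq_zero_iff.1 ⟨y, hy0, funext fun b => ?_⟩
      obtain ⟨b', hb'⟩ := Fin.exists_succAbove_eq (hn b)
      have := congrFun hy b'
      show y ⬝ᵥ (fun r => M r (tri n b)) = 0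
      rw [← hb']
      exact this
    intro n hn
    rcases g1 n hn with h' | h'
    · exact h n h'
    · exact hr n (h _ (g3 n h'))

theorem eq_seed_of_idx2 {B : Fin 20 → K} (hG : B ∈ Gr K) (h0 : B 0 ≠ 0)
    (h2 : ∀ l, B (idx2 l) = 0) : B = seed 0 (B 0) := by
  obtain ⟨M, -, rfl⟩ := hG
  set A : Matrix (Fin 3) (Fin 3) K := M.submatrix id (tri 0) with hA
  have hu : IsUnit A.det := isUnit_iff_ne_zero.2 h0
  have e1 : (A⁻¹ * M : Matrix (Fin 3) (Fin 6) K) =
      Matrix.of fun r c => if c = tri 0 r then 1 else 0 := by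
    ext r c
    show (A⁻¹ *ᵥ fun a => M a c) r = _
    rw [Matrix.inv_def, smul_mulVec, Pi.smul_apply, ← cramer_eq_adjugate_mulVec]
    have e : cramer A (fun a => M a c) r = ev (p M) (tsg (Function.update (tri 0) r c)) := by
      rw [cramer_apply, ← det_cols]
      congr 1
      ext a b
      by_cases hb : b = r
      · subst hb; simp
      · simp [hA, hb]
    rw [e]
    by_cases hcr : c = tri 0 r
    · subst hcr
      rw [Function.update_eq_self, tsg_tri, ev_some, Int.cast_one, one_mul, smul_eq_mul,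
        show p M 0 = A.det from rfl, Ring.inverse_mul_cancel _ hu]
      simp
    · cases hx : tsg (Function.update (tri 0) r c) with
      | none => simp [ev_none, hcr]
      | some x =>
        obtain ⟨l, hl⟩ := chk_cramer r c hcr x (by rw [hx]; rfl)
        obtain ⟨x, s⟩ := x
        subst hl
        simp [ev_some, h2, hcr]
  funext n
  have e2 : M = A * (A⁻¹ * M) := (Matrix.mul_nonsing_inv_cancel_left _ _ hu).symm
  by_cases hn : n = cN 0
  · subst hn; rw [seed, Pi.single_eq_same]; rfl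
  · rw [seed, Pi.single_eq_of_ne hn]
    conv_lhs => rw [e2, e1, p_mul, Pi.smul_apply]
    obtain ⟨b, hb⟩ := chk_single n (cN 0) hn
    rw [show p (Matrix.of fun r c => if c = tri 0 r then (1 : K) else 0) n = 0 from
      det_eq_zero_of_column_eq_zero b fun r => if_neg (hb r), smul_zero]

/-- A set of fixed points closed under the inner operations contains a seed. -/
theorem fix_dichotomy (hc : IsConj φ) {S : Set (Fin 20 → K)}
    (hS : ∀ i j, i ≠ j → Inner i j → ∀ c, ∀ B ∈ S, opT φ i j c B ∈ S)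
    (hR : ∀ B ∈ S, RealB φ B) (hG : ∀ B ∈ S, B ∈ Gr K) (hZ : ∀ B ∈ S, ZSupp B)
    {B : Fin 20 → K} (hB : B ∈ S) (hne : B ≠ 0) :
    ∃ α, φ α = α ∧ α ≠ 0 ∧ seed 0 α ∈ S := by
  classical
  obtain ⟨θ, hθ⟩ := hc.exists_theta
  have top : ∀ (n : Fin 20), ∀ B ∈ S, B n ≠ 0 → ∃ B' ∈ S, B' 0 ≠ 0 := by
    intro n
    induction n using WellFoundedLT.induction with
    | _ n ih =>
      intro B hB hn
      by_cases h0 : n = 0
      · exact ⟨B, hB, h0 ▸ hn⟩
      have hz : zS n := by_contra fun h => hn (hZ B hB n h)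
      obtain ⟨n', hlt, -, i, j, hij, hI, h⟩ := chk_z.2.1 n hz h0
      obtain ⟨c, hc'⟩ := raise hc h hn
      exact ih n' hlt _ (hS i j hij hI c B hB) hc'
  obtain ⟨n, hn⟩ := Function.ne_iff.1 hne
  obtain ⟨B₁, hB₁, h1⟩ := top n B hB hn
  set t : Fin (cLen 0) → K := fun k => -B₁ (cTgt 0 k) / ((cSg 0 k : K) * B₁ 0) with ht
  have hB₂ : trR φ θ 0 t B₁ ∈ S := by
    refine trvT_mem 0 _ (fun k hk => hS _ _ (chk_cell 0 k).1 (by_contra fun hI => hk ?_) _) _ _ hB₁
    rw [ht]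
    simp [hZ B₁ hB₁ _ (chk_z.2.2.1 k hI)]
  have h0 : trR φ θ 0 t B₁ 0 = B₁ 0 := trR_n θ 0 t B₁
  refine ⟨B₁ 0, real_zero (hR B₁ hB₁) 0, h1, ?_⟩
  rw [← h0, ← eq_seed_of_idx2 (hG _ hB₂) (by rw [h0]; exact h1) fun l => ?_]
  · exact hB₂
  · obtain ⟨k, hk⟩ := chk_idx2.1 l
    rw [← hk, trR_tgt hθ 0 (clear_mem (hR B₁ hB₁)), show B₁ (cN 0) = B₁ 0 from rfl]
    show B₁ (cTgt 0 k) + -B₁ (cTgt 0 k) / ((cSg 0 k : K) * B₁ 0) * ((cSg 0 k : K) * B₁ 0) = 0
    rw [div_mul_cancel₀ _ (mul_ne_zero (sg_ne (chk_cell_tau 0 k).2.2.1) h1), add_neg_cancel]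

end Cfsg.Agent.E6Tw
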