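import Mathlib.NumberTheory.LegendreSymbol.AddCharacter
import Mathlib.Analysis.Fourier.FiniteAbelian.PontryaginDuality
import Mathlib.GroupTheory.QuotientGroup.Basic
import Mathlib.Algebra.Field.Subfield.Basic

/-!
A finite field with an involution: fixed vectors, invariant characters.
-/

set_option autoImplicit false

namespace Cfsg.Agent.E6Tw

universe u w

variable {K : Type u} [Field K] (φ : K →+* K)

/-- An involution of the field, not the identity. -/
structure IsConj : Prop where
  invol : ∀ t, φ (φ t) = t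
  ne : ∃ t, φ t ≠ t

variable {φ}

theorem IsConj.exists_theta (h : IsConj φ) : ∃ θ : K, θ + φ θ = 1 := by
  obtain ⟨a, ha⟩ : ∃ a, a + φ a ≠ 0 := by
    by_contra hc
    push Not at hc
    obtain ⟨t, ht⟩ := h.ne
    have h1 := hc 1
    rw [map_one] at h1
    exact ht (by linear_combination hc t - t * h1)
  refine ⟨a / (a + φ a), ?_⟩
  rw [map_div₀, map_add, h.invol, add_comm (φ a) a, ← add_div, div_self ha]

theorem IsConj.exists_skew (h : IsConj φ) : ∃ δ : K, δ ≠ 0 ∧ φ δ = -δ := by
  obtain ⟨t, ht⟩ := h.ne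
  exact ⟨t - φ t, sub_ne_zero.2 ht.symm, by rw [map_sub, h.invol]; ring⟩

theorem IsConj.exists_zeta (h : IsConj φ) : ∃ ζ : K, ζ ≠ 1 ∧ ζ * φ ζ = 1 := by
  obtain ⟨t, ht⟩ := h.ne
  have ht0 : t ≠ 0 := fun e => ht (by rw [e, map_zero])
  have ht1 : φ t ≠ 0 := fun e => ht0 (by rw [← h.invol t, e, map_zero])
  refine ⟨t / φ t, fun e => ht (div_eq_one_iff_eq ht1 |>.1 e).symm, ?_⟩
  rw [map_div₀, h.invol]
  field_simp

/-- A semilinear expression of degree two with nonzero linear coefficient takes a nonzero value. -/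
theorem IsConj.exists_ne (h : IsConj φ) {b A A' Q : K} (hA : A ≠ 0) :
    ∃ c, b + A * c + A' * φ c + Q * (c * φ c) ≠ 0 := by
  by_contra hc
  push Not at hc
  obtain ⟨ζ, hζ, hn⟩ := h.exists_zeta
  obtain ⟨t, ht⟩ := h.ne
  have key : ∀ c, A * (ζ - 1) * c + A' * (φ ζ - 1) * φ c = 0 := fun c => by
    have h1 := hc c
    have h2 := hc (ζ * c)
    rw [map_mul] at h2
    linear_combination h2 - h1 - Q * c * φ c * hn
  have k1 := key 1
  rw [map_one] at k1
  have k2 : A * (ζ - 1) * (t - φ t) = 0 := by linear_combination key t - φ t * k1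
  exact mul_ne_zero (mul_ne_zero hA (sub_ne_zero.2 hζ)) (sub_ne_zero.2 ht.symm) k2

/-! ### Fixed vectors of semilinear involutions -/

variable {ι : Type w} (φ)

/-- The fixed vectors. -/
def RV (s : ι → ι) (κ : ι → K) : AddSubgroup (ι → K) where
  carrier := {t | ∀ m, t m = κ m * φ (t (s m))}
  zero_mem' := fun m => by simp
  add_mem' := fun {a b} ha hb m => by
    rw [Pi.add_apply, Pi.add_apply, map_add, mul_add, ← ha m, ← hb m]
  neg_mem' := fun {a} ha m => by rw [Pi.neg_apply, Pi.neg_apply, map_neg, mul_neg, ← ha m]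

variable {φ}

theorem mem_RV {s : ι → ι} {κ : ι → K} {t : ι → K} :
    t ∈ RV φ s κ ↔ ∀ m, t m = κ m * φ (t (s m)) := Iff.rfl

/-- The conditions on the data of a semilinear involution. -/
def InvData (φ : K →+* K) (s : ι → ι) (κ : ι → K) : Prop :=
  ∀ m, s (s m) = m ∧ κ m * φ (κ (s m)) = 1

theorem IsConj.card_RV (h : IsConj φ) [Fintype ι] [Fintype K] {q : ℕ}
    (hK : Fintype.card K = q ^ 2) {s : ι → ι} {κ : ι → K} (hd : InvData φ s κ) :
    Nat.card ↥(RV φ s κ) = q ^ Fintype.card ι := by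
  obtain ⟨θ, hθ⟩ := h.exists_theta
  obtain ⟨δ, hδ, hδ'⟩ := h.exists_skew
  let tr : (ι → K) →+ (ι → K) :=
    { toFun := fun t m => t m + κ m * φ (t (s m))
      map_zero' := by funext m; simp
      map_add' := fun a b => by funext m; simp only [Pi.add_apply, map_add]; ring }
  have hrange : tr.range = RV φ s κ := by
    ext t
    constructor
    · rintro ⟨x, rfl⟩ m
      show x m + κ m * φ (x (s m)) = κ m * φ (x (s m) + κ (s m) * φ (x (s (s m))))
      rw [(hd m).1, map_add, map_mul, h.invol]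
      linear_combination -(x m) * (hd m).2
    · intro ht
      refine ⟨fun m => θ * t m, funext fun m => ?_⟩
      show θ * t m + κ m * φ (θ * t (s m)) = t m
      rw [map_mul]
      linear_combination t m * hθ - φ θ * ht m
  have hker : Nat.card ↥tr.ker = Nat.card ↥(RV φ s κ) := by
    refine (Nat.card_congr
      { toFun := fun t => ⟨fun m => δ * t.1 m, fun m => ?_⟩
        invFun := fun t => ⟨fun m => δ⁻¹ * t.1 m, ?_⟩
        left_inv := fun t => Subtype.ext (funext fun m => inv_mul_cancel_left₀ hδ _)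
        right_inv := fun t => Subtype.ext (funext fun m => mul_inv_cancel_left₀ hδ _) })
    · have h1 : t.1 m + κ m * φ (t.1 (s m)) = 0 := congrFun t.2 m
      show δ * t.1 m = κ m * φ (δ * t.1 (s m))
      rw [map_mul, hδ']
      linear_combination δ * h1
    · funext m
      show δ⁻¹ * t.1 m + κ m * φ (δ⁻¹ * t.1 (s m)) = 0
      have h1 := t.2 m
      rw [map_mul, map_inv₀, hδ', inv_neg]
      linear_combination δ⁻¹ * h1
  have hcard : Nat.card ↥tr.range * Nat.card ↥tr.ker = Nat.card (ι → K) := by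
    rw [AddSubgroup.card_eq_card_quotient_mul_card_addSubgroup tr.ker,
      Nat.card_congr (QuotientAddGroup.quotientKerEquivRange tr).toEquiv]
  rw [hker, hrange, Nat.card_fun, Nat.card_eq_fintype_card (α := ι),
    Nat.card_eq_fintype_card (α := K), hK, ← pow_mul, mul_comm 2, pow_mul, ← pow_two] at hcard
  exact Nat.pow_left_injective (by norm_num) hcard

/-- The fixed field. -/
abbrev F0 (φ : K →+* K) : Subfield K := RingHom.eqLocusField φ (RingHom.id K)

theorem mem_F0 {x : K} : x ∈ F0 φ ↔ φ x = x := Iff.rfl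

theorem F0_fix (x : F0 φ) : φ (x : K) = x := x.2

theorem IsConj.card_F0 (h : IsConj φ) [Fintype K] {q : ℕ} (hK : Fintype.card K = q ^ 2) :
    Nat.card (F0 φ) = q := by
  have h1 := h.card_RV (ι := Unit) hK (s := id) (κ := fun _ => 1) fun m => ⟨rfl, by simp⟩
  rw [Fintype.card_unit, pow_one] at h1
  rw [← h1]
  exact Nat.card_congr
    { toFun := fun x => ⟨fun _ => x, fun _ => by rw [one_mul]; exact (F0_fix x).symm⟩
      invFun := fun t => ⟨t.1 (), by have := t.2 (); rw [one_mul] at this; exact this.symm⟩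
      left_inv := fun _ => rfl
      right_inv := fun _ => rfl }

variable [Fintype K]

theorem IsConj.exists_inv_char (h : IsConj φ) :
    ∃ ψ : AddChar K ℂ, ψ.IsPrimitive ∧ ∀ x, ψ (φ x) = ψ x := by
  obtain ⟨ψ₀, hψ₀⟩ : ∃ ψ : AddChar K ℂ, ψ 1 ≠ 1 := AddChar.exists_apply_ne_zero.2 one_ne_zero
  have hp : ψ₀.IsPrimitive := AddChar.IsPrimitive.of_ne_one fun e => hψ₀ (by rw [e, AddChar.one_apply])
  obtain ⟨η, hη⟩ := ((Fintype.bijective_iff_injective_and_card _).2
    ⟨AddChar.to_mulShift_inj_of_isPrimitive hp, AddChar.card_eq.symm⟩).2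
      (ψ₀.compAddMonoidHom φ.toAddMonoidHom)
  have hη' : ∀ x, ψ₀ (φ x) = ψ₀ (η * x) := fun x => by
    have := DFunLike.congr_fun hη x
    rw [AddChar.mulShift_apply] at this
    exact this.symm
  have hn : η * φ η = 1 := by
    refine AddChar.to_mulShift_inj_of_isPrimitive hp (DFunLike.ext _ _ fun x => ?_)
    simp only [AddChar.mulShift_apply, one_mul]
    rw [show η * φ η * x = η * (φ η * x) by ring, ← hη', map_mul, h.invol, ← hη', h.invol]
  obtain ⟨b, hb⟩ : ∃ b, b + η * φ b ≠ 0 := by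
    by_contra hc
    push Not at hc
    obtain ⟨t, ht⟩ := h.ne
    have h1 := hc 1
    rw [map_one, mul_one] at h1
    exact ht (by linear_combination -(hc t) + φ t * h1)
  refine ⟨ψ₀.mulShift (b + η * φ b), AddChar.IsPrimitive.of_ne_one (hp hb), fun x => ?_⟩
  simp only [AddChar.mulShift_apply]
  have e : φ (b + η * φ b) * η = b + η * φ b := by
    rw [map_add, map_mul, h.invol]
    linear_combination b * hn
  conv_rhs => rw [← e]
  rw [show φ (b + η * φ b) * η * x = η * (φ (b + η * φ b) * x) by ring, ← hη', map_mul φ, h.invol]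

/-- Orthogonality on the fixed field. -/
theorem IsConj.sum_fixed [DecidableEq K] (h : IsConj φ) [Fintype (F0 φ)] {ψ : AddChar K ℂ} (hp : ψ.IsPrimitive)
    (hinv : ∀ x, ψ (φ x) = ψ x) {θ : K} (hθ : θ + φ θ = 1) {α : K} (hα : φ α = α) :
    ∑ r : F0 φ, ψ (α * (θ * r)) = if α = 0 then (Fintype.card (F0 φ) : ℂ) else 0 := by
  split_ifs with h0
  · simp [h0, AddChar.map_zero_eq_one]
  · let χ : AddChar (F0 φ) ℂ :=
      (ψ.mulShift (α * θ)).compAddMonoidHom (F0 φ).subtype.toAddMonoidHom
    have hχ : χ ≠ 1 := fun e => by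
      refine hp h0 (DFunLike.ext _ _ fun x => ?_)
      have h1 : ψ (α * θ * (x + φ x)) = 1 := by
        have := DFunLike.congr_fun e ⟨x + φ x, mem_F0.2 (by rw [map_add, h.invol, add_comm])⟩
        rwa [AddChar.one_apply] at this
      have h2 : ψ (α * θ * φ x) = ψ (α * φ θ * x) := by
        rw [← hinv (α * θ * φ x), map_mul φ, map_mul φ, hα, h.invol]
      rw [AddChar.one_apply, AddChar.mulShift_apply, ← h1, mul_add, AddChar.map_add_eq_mul, h2,
        ← AddChar.map_add_eq_mul]
      congr 1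
      linear_combination -(α * x) * hθ
    rw [← AddChar.sum_eq_zero_of_ne_one hχ]
    exact Finset.sum_congr rfl fun r _ => by
      show ψ (α * (θ * r)) = ψ (α * θ * r)
      rw [mul_assoc]

end Cfsg.Agent.E6Tw
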