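import Cfsg.Agent.E6Deg.Elems
import Cfsg.Agent.Overgroup.Twisted.Orbit
import Cfsg.Agent.Chev.Twist.E6
import Cfsg.Agent.Chev.Twist.TwoGen
import Cfsg.Agent.E6Tw.Field

/-!
Elements of `²E₆(q)` in the parabolic subgroup of the highest root.
-/

set_option autoImplicit false
set_option maxRecDepth 100000

namespace Cfsg.Agent.E6Tw

open Cfsg.Lie Cfsg.Agent.Chev Cfsg.Agent.E6Deg
open scoped MatrixGroups

universe u

/-- The symmetry on the coordinates of the radical. -/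
def sS (S : Fin 20) : Fin 20 :=
  ([0, 1, 4, 10, 2, 5, 11, 7, 13, 16, 3, 6, 12, 8, 14, 17, 9, 15, 18, 19] : List (Fin 20)).getD S.1 0

/-- Its signs. -/
def lam (S : Fin 20) : ℤ :=
  ([1, 1, 1, -1, 1, 1, -1, 1, -1, -1, -1, -1, 1, -1, 1, 1, -1, 1, 1, 1] : List ℤ).getD S.1 1

/-- The signs of the skew form. -/
def dH (i : Fin 6) : ℤ := ([1, 1, -1, 1, -1, -1] : List ℤ).getD i.1 1

/-- The signs on the transvections. -/
def kap (i j : Fin 6) : ℤ := -(dH j * dH i)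

theorem chk_sigmaL : ∀ i j : Fin 6, i ≠ j →
    rL i j < 72 ∧ e6_flip_P.getD (rL i j) 0 = rL j.rev i.rev ∧
    e6_flip_E.getD (rL i j) 0 * eL i j = eL j.rev i.rev * kap i j := by
  decide +kernel

theorem chk_sigmaQ : ∀ S : Fin 20,
    rQ S < 72 ∧ e6_flip_P.getD (rQ S) 0 = rQ (sS S) ∧
    e6_flip_E.getD (rQ S) 0 * eQ S = eQ (sS S) * lam S ∧
    sS S ≠ S.rev ∧ sS (sS S) = S ∧ lam S * lam (sS S) = 1 := by
  decide +kernel

theorem chk_kap : ∀ i j : Fin 6, i ≠ j → kap i j * kap j.rev i.rev = 1 := by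
  decide +kernel

theorem chk_sigma_top : e6_flip_P.getD 71 0 = 71 ∧ e6_flip_E.getD 71 0 = 1 := by
  decide +kernel

theorem chk_rho : ∀ r : Fin chevE6.nroots, (e6_flip_ρ r : ℕ) = e6_flip_P.getD r 0 := by
  decide +kernel

theorem chk_dims : chevE6.nroots = 72 ∧ half chevE6 = 36 := by
  decide +kernel

/-- The image of a root under a word in the orbits. -/
def wimg (ws : List (Fin 4)) (r : ℕ) : ℕ :=
  (ws.flatMap (orbNats e6_flip_π e6Base e6Len)).foldr (fun i s => chevE6.reflectRoot i s) r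

theorem chk_pos : (∀ i j : Fin 6, i < j → 36 ≤ rL i j) ∧ ∀ S : Fin 20, 36 ≤ rQ S := by
  decide +kernel

theorem chk_low : ∀ i j : Fin 6, j < i → 36 ≤ wimg [2, 1, 2, 0, 1, 2, 0, 1, 0] (rL i j) := by
  decide +kernel

variable {K : Type u} [Field K]

theorem isConj_of {φ : K →+* K} (hφ : ∀ t, (φ ^ 2) t = t) (hne : ∃ t, φ t ≠ t) : IsConj φ where
  invol t := by
    have := hφ t
    rwa [pow_two, RingHom.mul_def, RingHom.comp_apply] at this
  ne := hne

variable {φ : K →+* K} (hφ : ∀ t, (φ ^ 2) t = t)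

include hφ in
theorem invol' (t : K) : φ (φ t) = t := by
  have := hφ t
  rwa [pow_two, RingHom.mul_def, RingHom.comp_apply] at this

/-- The twisted group. -/
abbrev GT := ↥(twistE6 K φ hφ).G1

/-- The inclusion in the Chevalley group. -/
def inG : GT hφ →* Gp K := Subgroup.inclusion (twistE6 K φ hφ).G1_le_group

theorem inG_injective : Function.Injective (inG hφ) := Subgroup.inclusion_injective _

theorem inG_val (g : GT hφ) : (inG hφ g : GL chevE6.Idx K) = g.1 := rfl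

theorem σ_mem_group {g : GL chevE6.Idx K} (hg : g ∈ chevE6.group K) :
    (twistE6 K φ hφ).σ g ∈ chevE6.group K := by
  refine ((Subgroup.closure_le _).2 ?_ :
    chevE6.group K ≤ (chevE6.group K).comap (twistE6 K φ hφ).σ) hg
  rintro g ⟨r, t, e⟩
  obtain ⟨e', -, h⟩ := (twistE6 K φ hφ).σ_x r
  show (twistE6 K φ hφ).σ g ∈ chevE6.group K
  rw [show g = xG facts_chevE6 r t from
    Units.ext (by rw [xG_val, ChevalleyDatum.x, dif_pos r.2]; exact e),
    show facts_chevE6 = (twistE6 K φ hφ).hF from rfl, h]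
  exact xG_mem_group _ _ _

/-- The endomorphism of the Chevalley group. -/
def σp : Gp K →* Gp K :=
  ((twistE6 K φ hφ).σ.comp (chevE6.group K).subtype).codRestrict (chevE6.group K)
    fun g => σ_mem_group hφ g.2

theorem σp_fix_iff {g : Gp K} : σp hφ g = g ↔ (g : GL chevE6.Idx K) ∈ (twistE6 K φ hφ).fx :=
  Subtype.ext_iff

theorem σp_inG (g : GT hφ) : σp hφ (inG hφ g) = inG hφ g :=
  (σp_fix_iff hφ).2 ((twistE6 K φ hφ).G1_le_fx g.2)

theorem σp_xx {r : ℕ} (hr : r < 72) (t : K) :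
    σp hφ (xx r t) = xx (e6_flip_P.getD r 0) ((e6_flip_E.getD r 0 : K) * φ t) := by
  have hr' : r < chevE6.nroots := chk_dims.1 ▸ hr
  refine Subtype.ext ?_
  show (twistE6 K φ hφ).σ (xG facts_chevE6 r t) = xG facts_chevE6 (e6_flip_P.getD r 0) _
  rw [← chk_rho ⟨r, hr'⟩]
  exact Overgroup.Twisted.σ_xG (twistE6 K φ hφ) ⟨r, hr'⟩ t

theorem σp_xl {i j : Fin 6} (hij : i ≠ j) (a : K) :
    σp hφ (xl i j a) = xl j.rev i.rev ((kap i j : K) * φ a) := by
  obtain ⟨h1, h2, h3⟩ := chk_sigmaL i j hij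
  rw [xl, σp_xx hφ h1, h2, xl, map_mul, map_intCast, ← mul_assoc, ← mul_assoc]
  congr 2
  exact_mod_cast congrArg (fun z : ℤ => (z : K)) h3

theorem σp_xs (S : Fin 20) (u : K) : σp hφ (xs S u) = xs (sS S) ((lam S : K) * φ u) := by
  obtain ⟨h1, h2, h3, -⟩ := chk_sigmaQ S
  rw [xs, σp_xx hφ h1, h2, xs, map_mul, map_intCast, ← mul_assoc, ← mul_assoc]
  congr 2
  exact_mod_cast congrArg (fun z : ℤ => (z : K)) h3

theorem σp_zz (v : K) : σp hφ (zz v) = zz (φ v) := by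
  rw [zz, σp_xx hφ (by norm_num), chk_sigma_top.1, chk_sigma_top.2, Int.cast_one, one_mul]
  rfl

theorem xx_mem_pos {r : ℕ} (hr : r < 72) (hp : 36 ≤ r) (t : K) :
    (xx r t : GL chevE6.Idx K) ∈ chevE6.posUnipotent K :=
  mem_posUnipotent_of facts_chevE6 (chk_dims.1 ▸ hr) (chk_dims.2 ▸ hp) t

theorem mem_of_pos {g : Gp K} (hg : σp hφ g = g)
    (hp : (g : GL chevE6.Idx K) ∈ chevE6.posUnipotent K) :
    (g : GL chevE6.Idx K) ∈ (twistE6 K φ hφ).G1 :=
  (twistE6 K φ hφ).U1_le_G1 ⟨hp, (σp_fix_iff hφ).1 hg⟩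

/-- Representatives of the words. -/
theorem exists_word (ws : List (Fin 4)) :
    ∃ n : GT hφ, ∀ r, r < 72 → ∃ c : K, c ≠ 0 ∧
      ∀ t, inG hφ n * xx r t * (inG hφ n)⁻¹ = xx (wimg ws r) (c * t) := by
  let ws' : List (Fin (twistE6 K φ hφ).m) := ws
  refine ⟨⟨_, (twistE6 K φ hφ).N1_le_G1 ((twistE6 K φ hφ).nW_mem_N1 ws')⟩, fun r hr => ?_⟩
  obtain ⟨c, hc, h⟩ := (twistE6 K φ hφ).isMon_nW ws' ⟨r, chk_dims.1 ▸ hr⟩
  refine ⟨c, hc, fun t => Subtype.ext ?_⟩
  show (twistE6 K φ hφ).nW ws' * xG facts_chevE6 r t * ((twistE6 K φ hφ).nW ws')⁻¹ =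
    xG facts_chevE6 (wimg ws r) (c * t)
  rw [mul_inv_eq_iff_eq_mul]
  refine (h t).trans ?_
  rw [(twistE6 K φ hφ).pW_val]
  rfl

theorem chk_torus : ∀ k : Fin chevE6.rank, (k : ℕ) = 1 ∨ (k : ℕ) = 3 → e6_flip_π.symm k = k := by
  decide +kernel

/-- Torus elements at the fixed nodes. -/
theorem exists_torus_node {k : Fin chevE6.rank} (hk : (k : ℕ) = 1 ∨ (k : ℕ) = 3) {t : K}
    (ht0 : t ≠ 0) (ht : φ t = t) :
    ∃ g : GT hφ, ∀ r, r < 72 → ∀ v,
      inG hφ g * xx r v * (inG hφ g)⁻¹ = xx r (t ^ chevE6.cartan k r * v) := by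
  set c : Fin chevE6.rank → Kˣ := Pi.mulSingle k (Units.mk0 t ht0) with hc
  have hmem : c ∈ (twistE6 K φ hφ).cfix := by
    rw [Twist.mem_cfix]
    funext i
    show Units.map φ.toMonoidHom (c (e6_flip_π.symm i)) = c i
    by_cases hi : i = k
    · subst hi
      rw [chk_torus i hk, hc, Pi.mulSingle_eq_same]
      exact Units.ext ht
    · have hne : e6_flip_π.symm i ≠ k := fun e =>
        hi (e6_flip_π.symm.injective (e.trans (chk_torus k hk).symm))
      rw [hc, Pi.mulSingle_eq_of_ne hne, Pi.mulSingle_eq_of_ne hi, map_one]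
  have hG : (torusHom c : GL chevE6.Idx K) ∈ (twistE6 K φ hφ).G1 :=
    (twistE6 K φ hφ).T1_le_G1 ⟨c, hmem, rfl⟩
  refine ⟨⟨_, hG⟩, fun r hr v => Subtype.ext ?_⟩
  show torusHom c * xG facts_chevE6 r v * (torusHom c)⁻¹ = xG facts_chevE6 r _
  have hchi : ((chiU c r : Kˣ) : K) = t ^ chevE6.cartan k r := by
    rw [chiU, Finset.prod_eq_single k]
    · rw [hc, Pi.mulSingle_eq_same, Units.val_zpow_eq_zpow_val, Units.val_mk0]
    · intro j _ hj
      rw [hc, Pi.mulSingle_eq_of_ne hj, one_zpow]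
    · simp
  rw [torusHom_conj facts_chevE6 c (chk_dims.1 ▸ hr), mul_inv_cancel_right, hchi]

/-! ### The fixed elements -/

/-- The fixed product over the orbit of a coordinate, in the Chevalley group. -/
noncomputable def yP (φ : K →+* K) (S : Fin 20) (u : K) : Gp K :=
  xs S u * xs (sS S) ((lam S : K) * φ u)

theorem yP_fix (S : Fin 20) (u : K) : σp hφ (yP φ S u) = yP φ S u := by
  obtain ⟨-, -, -, hne, hss, hll⟩ := chk_sigmaQ S
  rw [yP, map_mul, σp_xs, σp_xs, hss, map_mul, map_intCast, invol' hφ, ← mul_assoc,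
    ← Int.cast_mul, mul_comm (lam (sS S)), hll, Int.cast_one, one_mul,
    (xs_commute (S := S) (S' := sS S) hne u _).eq]

/-- The fixed product over the orbit of a coordinate. -/
noncomputable def yT (S : Fin 20) (u : K) : GT hφ :=
  ⟨_, mem_of_pos hφ (yP_fix hφ S u)
    (mul_mem (xx_mem_pos (chk_sigmaQ S).1 (chk_pos.2 S) _)
      (xx_mem_pos (chk_sigmaQ (sS S)).1 (chk_pos.2 _) _))⟩

theorem inG_yT (S : Fin 20) (u : K) : inG hφ (yT hφ S u) = yP φ S u := rfl

/-- The fixed part of the highest root group. -/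
noncomputable def zT (v : F0 φ) : GT hφ :=
  ⟨_, mem_of_pos hφ (g := zz (v : K)) (by rw [σp_zz, F0_fix])
    (xx_mem_pos (by norm_num) (by norm_num) _)⟩

theorem inG_zT (v : F0 φ) : inG hφ (zT hφ v) = zz (v : K) := rfl

theorem zT_add (a b : F0 φ) : zT hφ (a + b) = zT hφ a * zT hφ b :=
  inG_injective hφ (by rw [map_mul, inG_zT, inG_zT, inG_zT, Subfield.coe_add, zz_add])

theorem rev_ne {i j : Fin 6} (hij : i ≠ j) : j.rev ≠ i.rev := fun e => hij (Fin.rev_injective e).symm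

/-- The fixed product over the orbit of a transvection, in the Chevalley group. -/
noncomputable def xP (φ : K →+* K) (i j : Fin 6) (c : K) : Gp K :=
  xl i j c * xl j.rev i.rev ((kap i j : K) * φ c)

theorem chk_xP : ∀ i j : Fin 6, i ≠ j → j ≠ j.rev ∧ i ≠ i.rev := by decide +kernel

theorem xP_fix {i j : Fin 6} (hij : i ≠ j) (c : K) : σp hφ (xP φ i j c) = xP φ i j c := by
  rw [xP, map_mul, σp_xl hφ hij, σp_xl hφ (rev_ne hij), map_mul, map_intCast, invol' hφ,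
    Fin.rev_rev, Fin.rev_rev, ← mul_assoc, ← Int.cast_mul, mul_comm (kap j.rev i.rev),
    chk_kap i j hij, Int.cast_one, one_mul,
    (xl_comm i j j.rev i.rev hij (rev_ne hij) (chk_xP i j hij).1 (chk_xP i j hij).2 _ _).eq]

theorem chk_rev_lt : ∀ i j : Fin 6, i < j → j.rev < i.rev := by decide +kernel

theorem xP_mem {i j : Fin 6} (hij : i ≠ j) (c : K) :
    (xP φ i j c : GL chevE6.Idx K) ∈ (twistE6 K φ hφ).G1 := by
  rcases lt_or_gt_of_ne hij with h | h
  · exact mem_of_pos hφ (xP_fix hφ hij c) (mul_mem (xx_mem_pos (chk_sigmaL i j hij).1 (chk_pos.1 i j h) _)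
      (xx_mem_pos (chk_sigmaL _ _ (rev_ne hij)).1 (chk_pos.1 _ _ (chk_rev_lt i j h)) _))
  · obtain ⟨n, hn⟩ := exists_word hφ [2, 1, 2, 0, 1, 2, 0, 1, 0]
    have hlt : ∀ a b : Fin 6, a ≠ b → wimg [2, 1, 2, 0, 1, 2, 0, 1, 0] (rL a b) < 72 := by
      decide +kernel
    have hpos : ∀ {a b : Fin 6}, b < a → ∀ t : K,
        ((inG hφ n * xl a b t * (inG hφ n)⁻¹ : Gp K) : GL chevE6.Idx K) ∈ chevE6.posUnipotent K :=
      fun {a b} hab t => by
      obtain ⟨c', -, hc'⟩ := hn _ (chk_sigmaL a b hab.ne').1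
      rw [xl, hc']
      exact xx_mem_pos (hlt a b hab.ne') (chk_low a b hab) _
    have hfix : σp hφ (inG hφ n * xP φ i j c * (inG hφ n)⁻¹) = inG hφ n * xP φ i j c * (inG hφ n)⁻¹ := by
      rw [map_mul, map_mul, map_inv, σp_inG, xP_fix hφ hij]
    have hm := mem_of_pos hφ hfix (by
      rw [xP, show inG hφ n * (xl i j c * xl j.rev i.rev ((kap i j : K) * φ c)) * (inG hφ n)⁻¹ =
        (inG hφ n * xl i j c * (inG hφ n)⁻¹) *
          (inG hφ n * xl j.rev i.rev ((kap i j : K) * φ c) * (inG hφ n)⁻¹) by group, Subgroup.coe_mul]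
      exact mul_mem (hpos h _) (hpos (chk_rev_lt j i h) _))
    have := mul_mem (mul_mem (inv_mem n.2) hm) n.2
    rwa [Subgroup.coe_mul, Subgroup.coe_mul, Subgroup.coe_inv, inG_val, mul_assoc _ _ (n : GL chevE6.Idx K),
      mul_assoc _ _ (n : GL chevE6.Idx K), inv_mul_cancel, mul_one, inv_mul_cancel_left] at this

/-- The fixed product over the orbit of a transvection. -/
noncomputable def xT {i j : Fin 6} (hij : i ≠ j) (c : K) : GT hφ := ⟨_, xP_mem hφ hij c⟩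

theorem inG_xT {i j : Fin 6} (hij : i ≠ j) (c : K) : inG hφ (xT hφ hij c) = xP φ i j c := rfl

end Cfsg.Agent.E6Tw
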