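import Cfsg.Agent.E6Tw.Radical
import Cfsg.Agent.E6Deg.Dichotomy
import Cfsg.Agent.Classical.UnitaryGroup

/-!
The special unitary group in the Levi subgroup.
-/

set_option autoImplicit false
set_option maxRecDepth 100000

namespace Cfsg.Agent.E6Tw

open Cfsg.Lie Cfsg.Agent.Chev Cfsg.Agent.E6Deg Cfsg.Agent.Classical Cfsg.Agent.Classical.Herm Matrix

universe u

variable {K : Type u} [Field K] {φ : K →+* K}

/-- The hermitian form. -/
def hB (φ : K →+* K) (δ : K) : (Fin 6 → K) →ₛₗ[φ] (Fin 6 → K) →ₗ[K] K :=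
  LinearMap.mk₂'ₛₗ φ (RingHom.id K) (fun u v => δ * ∑ i, (dH i : K) * φ (u i) * v i.rev)
    (fun u u' v => by simp [mul_add, add_mul, Finset.sum_add_distrib])
    (fun c u v => by simp only [Pi.smul_apply, smul_eq_mul, map_mul, Finset.mul_sum]
                     exact Finset.sum_congr rfl fun i _ => by ring)
    (fun u v v' => by simp [mul_add, Finset.sum_add_distrib])
    (fun c u v => by simp only [Pi.smul_apply, smul_eq_mul, RingHom.id_apply, Finset.mul_sum]
                     exact Finset.sum_congr rfl fun i _ => by ring)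

theorem hB_apply (δ : K) (u v : Fin 6 → K) :
    hB φ δ u v = δ * ∑ i, (dH i : K) * φ (u i) * v i.rev := rfl

theorem chk_dH : (∀ i, dH i.rev = -dH i) ∧ (∀ i, dH i = 1 ∨ dH i = -1) := by decide +kernel

theorem hB_single_left (δ : K) (a : Fin 6) (x : K) (v : Fin 6 → K) :
    hB φ δ (Pi.single a x) v = δ * ((dH a : K) * φ x * v a.rev) := by
  rw [hB_apply, Finset.sum_eq_single a]
  · rw [Pi.single_eq_same]
  · intro b _ hb; rw [Pi.single_eq_of_ne hb, map_zero, mul_zero, zero_mul]
  · simp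

theorem hB_single_right (δ : K) (a : Fin 6) (y : K) (u : Fin 6 → K) :
    hB φ δ u (Pi.single a y) = δ * (-(dH a : K) * φ (u a.rev) * y) := by
  rw [hB_apply, Finset.sum_eq_single a.rev]
  · rw [Fin.rev_rev, Pi.single_eq_same, chk_dH.1 a, Int.cast_neg]
  · intro b _ hb
    rw [Pi.single_eq_of_ne (fun e => hb (by rw [← e, Fin.rev_rev])), mul_zero]
  · simp

theorem hB_isHerm (hc : IsConj φ) {δ : K} (hδ : δ ≠ 0) (hδ' : φ δ = -δ) : IsHerm (hB φ δ) where
  ne_id := fun e => by
    obtain ⟨t, ht⟩ := hc.ne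
    exact ht (by rw [e]; rfl)
  invol := hc.invol
  symm u v := by
    rw [hB_apply, hB_apply, map_mul, hδ', map_sum, Finset.mul_sum, Finset.mul_sum]
    refine Fintype.sum_equiv Fin.revPerm _ _ fun i => ?_
    rw [Fin.revPerm_apply, Fin.rev_rev, chk_dH.1 i, map_mul, map_mul, map_intCast, hc.invol,
      Int.cast_neg]
    ring
  nondeg u hu := funext fun i => by
    have h := hu (Pi.single i.rev 1)
    rw [hB_single_right, Fin.rev_rev, mul_one] at h
    rcases mul_eq_zero.1 h with h1 | h1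
    · exact absurd h1 hδ
    · rcases mul_eq_zero.1 h1 with h2 | h2
      · exact absurd (neg_eq_zero.1 h2) (sg_ne (chk_dH.2 _))
      · rwa [map_eq_zero] at h2

variable [DecidableEq K]

/-- The matrix of a fixed product of transvections. -/
def xM (φ : K →+* K) {i j : Fin 6} (hij : i ≠ j) (c : K) : SpecialLinearGroup (Fin 6) K :=
  SpecialLinearGroup.transvection hij c *
    SpecialLinearGroup.transvection (rev_ne hij) ((kap i j : K) * φ c)

theorem tv_mulVec (i j : Fin 6) (c : K) (v : Fin 6 → K) :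
    Matrix.transvection i j c *ᵥ v = v + Pi.single i (c * v j) := by
  rw [Matrix.transvection, Matrix.add_mulVec, Matrix.one_mulVec]
  congr 1
  funext m
  simp only [Matrix.mulVec, dotProduct, Matrix.single, Matrix.of_apply]
  by_cases hm : i = m
  · subst hm; simp
  · simp [hm, Pi.single_eq_of_ne (Ne.symm hm)]

theorem xM_apply {i j : Fin 6} (hij : i ≠ j) (c : K) (v : Fin 6 → K) :
    slLin (xM φ hij c) v =
      v + Pi.single i (c * v j) + Pi.single j.rev ((kap i j : K) * φ c * v i.rev) := by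
  rw [slLin_apply, xM, sl_val_mul, ← Matrix.mulVec_mulVec]
  show Matrix.transvection i j c *ᵥ (Matrix.transvection j.rev i.rev _ *ᵥ v) = _
  rw [tv_mulVec, tv_mulVec, Pi.add_apply, Pi.single_eq_of_ne (chk_xP i j hij).1, add_zero]
  abel

theorem xM_mem (hc : IsConj φ) (δ : K) {i j : Fin 6} (hij : i ≠ j) (c : K) :
    slLin (xM φ hij c) ∈ suG (hB φ δ) := by
  refine ⟨fun u v => ?_, det_slLin _⟩
  obtain ⟨hj, hi⟩ := chk_xP i j hij
  have hd : (dH i : K) * (dH i : K) = 1 := sign_sq (chk_dH.2 i)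
  have hd' : (dH j : K) * (dH j : K) = 1 := sign_sq (chk_dH.2 j)
  simp only [xM_apply, map_add, LinearMap.add_apply, hB_single_left, hB_single_right, Fin.rev_rev,
    Pi.single_eq_of_ne hij.symm, Pi.single_eq_of_ne hij, Pi.single_eq_of_ne hi.symm,
    Pi.single_eq_of_ne hj.symm, Pi.single_eq_of_ne hj, Pi.single_eq_of_ne hi,
    Pi.single_eq_of_ne (rev_ne hij), Pi.single_eq_of_ne (rev_ne hij).symm,
    chk_dH.1 i, chk_dH.1 j, Int.cast_neg, map_mul, map_intCast, hc.invol, kap, Int.cast_mul,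
    map_zero, mul_zero, zero_mul, add_zero, map_neg]
  linear_combination (-(δ * (dH i : K) * φ c * φ (u j) * v i.rev)) * hd' +
    (δ * (dH i : K) * c * φ (u i.rev) * v j) * hd'

variable (δ : K)

/-- The element as a member of the special unitary group. -/
noncomputable def xU (hc : IsConj φ) {i j : Fin 6} (hij : i ≠ j) (c : K) : suG (hB φ δ) :=
  ⟨_, xM_mem hc δ hij c⟩

/-- The matrix of an isometry. -/
noncomputable def toSL : suG (hB φ δ) →* SpecialLinearGroup (Fin 6) K where
  toFun g := ⟨LinearMap.toMatrix' g.1.toLinearMap, by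
    rw [LinearMap.det_toMatrix']
    have := congrArg Units.val g.2.2
    rwa [LinearEquiv.coe_det, Units.val_one] at this⟩
  map_one' := Subtype.ext LinearMap.toMatrix'_one
  map_mul' g g' := Subtype.ext (LinearMap.toMatrix'_mul g.1.toLinearMap g'.1.toLinearMap)

theorem toSL_xU (hc : IsConj φ) {i j : Fin 6} (hij : i ≠ j) (c : K) :
    toSL δ (xU δ hc hij c) = xM φ hij c :=
  Subtype.ext (LinearMap.toMatrix'_toLin' (xM φ hij c).1)

variable (hφ : ∀ t, (φ ^ 2) t = t) [Fintype K]

/-- The isometries that map into the twisted group. -/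
noncomputable def inTw : Subgroup (suG (hB φ δ)) :=
  ((twistE6 K φ hφ).G1.comap (chevE6.group K).subtype).comap ((Phi K).comp (toSL δ))

theorem xU_mem (hc : IsConj φ) {i j : Fin 6} (hij : i ≠ j) (c : K) :
    xU δ hc hij c ∈ inTw δ hφ := by
  show (Phi K (toSL δ (xU δ hc hij c)) : GL chevE6.Idx K) ∈ (twistE6 K φ hφ).G1
  rw [toSL_xU, xM, map_mul, Phi_transvection, Phi_transvection]
  exact xP_mem hφ hij c

theorem inTw_eq_top (hc : IsConj φ) {δ : K} (hδ : δ ≠ 0) (hδ' : φ δ = -δ) :
    inTw δ hφ = ⊤ := by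
  have h := hB_isHerm hc hδ hδ'
  obtain ⟨θ, hθ⟩ := hc.exists_theta
  let Good : (Fin 6 → K) → Prop := fun v => ∀ (hv : hB φ δ v v = 0) (c : K) (hc' : c + φ c = 0),
    (⟨tvU hv c, tvU_mem h hv hc'⟩ : suG (hB φ δ)) ∈ inTw δ hφ
  have move : ∀ {i j : Fin 6} (hij : i ≠ j) (a : K) (v : Fin 6 → K),
      Good (slLin (xM φ hij a) v) → Good v := by
    intro i j hij a v hg hv c hc'
    have hm := xU_mem δ hφ hc hij a
    have e := conj_tvU (g := slLin (xM φ hij a)) h (xM_mem hc δ hij a).1 hv c
    have hv' : hB φ δ (slLin (xM φ hij a) v) (slLin (xM φ hij a) v) = 0 := by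
      rw [(xM_mem hc δ hij a).1, hv]
    have := mul_mem (mul_mem (inv_mem hm) (hg hv' c hc')) hm
    convert this using 1
    refine Subtype.ext ?_
    show tvU hv c = (slLin (xM φ hij a))⁻¹ * tvU hv' c * slLin (xM φ hij a)
    rw [← e]
    group
  have g5 : ∀ v : Fin 6 → K, v 0 ≠ 0 → (∀ m, m ≠ 0 → m ≠ 5 → v m = 0) → v 5 = 0 → Good v := by
    intro v h0 h14 h5 hv c hc'
    have hv0 : v = Pi.single 0 (v 0) := funext fun m => by
      by_cases hm : m = 0
      · subst hm; rw [Pi.single_eq_same]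
      · rw [Pi.single_eq_of_ne hm]
        by_cases hm5 : m = 5
        · rw [hm5, h5]
        · exact h14 m hm hm5
    convert xU_mem δ hφ hc (show (0 : Fin 6) ≠ 5 by decide) (θ * (c * δ * (v 0 * φ (v 0)))) using 1
    refine Subtype.ext (LinearEquiv.ext fun x => ?_)
    show tvU hv c x = slLin (xM φ _ _) x
    have hr : φ (c * δ * (v 0 * φ (v 0))) = c * δ * (v 0 * φ (v 0)) := by
      rw [map_mul, map_mul, map_mul, hc.invol, hδ', eq_neg_of_add_eq_zero_right hc']
      ring
    rw [xM_apply, tvU_apply, map_mul, hr,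
      show kap (0 : Fin 6) 5 = 1 from rfl, show (Fin.rev (5 : Fin 6)) = 0 from rfl,
      show (Fin.rev (0 : Fin 6)) = 5 from rfl, add_assoc, ← Pi.single_add]
    congr 1
    rw [hv0, hB_single_left, show dH 0 = 1 from rfl, show (Fin.rev (0 : Fin 6)) = 5 from rfl]
    simp only [Pi.single_eq_same, ← Pi.single_smul', smul_eq_mul]
    congr 1
    push_cast
    linear_combination -(c * δ * v 0 * φ (v 0) * x 5) * hθ
  have g14 : ∀ v : Fin 6 → K, v 0 ≠ 0 → (∀ m, m ≠ 0 → m ≠ 5 → v m = 0) → Good v := by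
    intro v h0 h14 hv
    have hr : φ (v 5 / v 0) = v 5 / v 0 := by
      have e := hv
      rw [hB_apply, Fin.sum_univ_six] at e
      simp only [show (Fin.rev (0 : Fin 6)) = 5 from rfl, show (Fin.rev (5 : Fin 6)) = 0 from rfl,
        h14 1 (by decide) (by decide), h14 2 (by decide) (by decide), h14 3 (by decide) (by decide),
        h14 4 (by decide) (by decide), map_zero, mul_zero, zero_mul, add_zero,
        show dH 0 = 1 from rfl, show dH 5 = -1 from rfl, Int.cast_one, Int.cast_neg] at e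
      have e' := (mul_eq_zero.1 e).resolve_left hδ
      rw [map_div₀, div_eq_div_iff ((map_ne_zero φ).2 h0) h0]
      linear_combination -e'
    refine move (show (5 : Fin 6) ≠ 0 by decide) (-θ * (v 5 / v 0)) v (g5 _ ?_ (fun m hm hm5 => ?_) ?_) hv
    · simpa [xM_apply, show (Fin.rev (0 : Fin 6)) = 5 from rfl] using h0
    · simp [xM_apply, show (Fin.rev (0 : Fin 6)) = 5 from rfl, hm5, h14 m hm hm5]
    · simp only [xM_apply, Pi.add_apply, show (Fin.rev (0 : Fin 6)) = 5 from rfl,
        show (Fin.rev (5 : Fin 6)) = 0 from rfl, Pi.single_eq_same, map_mul, map_neg, hr,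
        show kap (5 : Fin 6) 0 = 1 from rfl, Int.cast_one, one_mul]
      linear_combination -(v 5 / v 0 * v 0) * hθ - div_mul_cancel₀ (v 5) h0
  have g0 : ∀ (s : Finset (Fin 6)) (v : Fin 6 → K), v 0 ≠ 0 →
      (∀ m, m ≠ 0 → m ≠ 5 → m ∉ s → v m = 0) → Good v := by
    intro s
    induction s using Finset.induction with
    | empty => exact fun v h0 hs => g14 v h0 fun m a b => hs m a b (Finset.notMem_empty m)
    | insert i s _ ih =>
      intro v h0 hs
      by_cases hi : i = 0 ∨ i = 5
      · refine ih v h0 fun m a b hm => hs m a b ?_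
        rw [Finset.mem_insert, not_or]
        exact ⟨fun e => by rcases hi with h | h <;> simp_all, hm⟩
      push Not at hi
      refine move hi.1 (-v i / v 0) v (ih _ ?_ fun m a b hm => ?_)
      · simpa [xM_apply, Pi.single_eq_of_ne hi.1.symm,
          show (Fin.rev (0 : Fin 6)) = 5 from rfl] using h0
      · simp only [xM_apply, Pi.add_apply, show (Fin.rev (0 : Fin 6)) = 5 from rfl,
          Pi.single_eq_of_ne b, add_zero]
        by_cases hmi : m = i
        · subst hmi; rw [Pi.single_eq_same, div_mul_cancel₀ _ h0, add_neg_cancel]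
        · rw [Pi.single_eq_of_ne hmi, add_zero]
          exact hs m a b (by simp [hmi, hm])
  have gall : ∀ v : Fin 6 → K, v ≠ 0 → Good v := by
    intro v hv
    by_cases h0 : v 0 = 0
    · obtain ⟨j, hj⟩ := Function.ne_iff.1 hv
      have hj0 : (0 : Fin 6) ≠ j := fun e => hj (e ▸ h0)
      by_cases hj5 : j = 5
      · subst hj5
        refine move hj0 θ v (g0 Finset.univ _ ?_ fun m _ _ hm => absurd (Finset.mem_univ m) hm)
        simp only [xM_apply, Pi.add_apply, h0, show (Fin.rev (5 : Fin 6)) = 0 from rfl,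
          show (Fin.rev (0 : Fin 6)) = 5 from rfl, Pi.single_eq_same, zero_add,
          show kap (0 : Fin 6) 5 = 1 from rfl, Int.cast_one, one_mul, ← add_mul, hθ]
        simpa using hj
      · refine move hj0 1 v (g0 Finset.univ _ ?_ fun m _ _ hm => absurd (Finset.mem_univ m) hm)
        have : (0 : Fin 6) ≠ j.rev := fun e => hj5 (by rw [← Fin.rev_rev j, ← e]; rfl)
        simpa [xM_apply, h0, Pi.single_eq_of_ne this] using hj
    · exact g0 Finset.univ v h0 fun m _ _ hm => absurd (Finset.mem_univ m) hm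
  have hle : suG (hB φ δ) ≤ (inTw δ hφ).map (suG (hB φ δ)).subtype := by
    conv_lhs => rw [← suG_eq_TUon h (by rw [Module.finrank_fin_fun]; norm_num)
      (Or.inr (by rw [Module.finrank_fin_fun]; norm_num))]
    refine (Subgroup.closure_le _).2 ?_
    rintro t ⟨e, -, c, he, hc', ht⟩
    by_cases he0 : e = 0
    · subst he0
      exact ⟨1, one_mem _, LinearEquiv.ext fun x => ((ht x).trans (by simp)).symm⟩
    · exact ⟨⟨tvU he c, tvU_mem h he hc'⟩, gall e he0 he c hc',
        LinearEquiv.ext fun x => (ht x).symm⟩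
  refine eq_top_iff.2 fun g _ => ?_
  obtain ⟨k, hk, hkg⟩ := hle g.2
  rwa [← Subtype.ext hkg]

/-- The special unitary group in the twisted group. -/
noncomputable def Psi (hc : IsConj φ) {δ : K} (hδ : δ ≠ 0) (hδ' : φ δ = -δ) :
    suG (hB φ δ) →* GT hφ :=
  ((chevE6.group K).subtype.comp ((Phi K).comp (toSL δ))).codRestrict _ fun g => by
    have h : g ∈ inTw δ hφ := by rw [inTw_eq_top hφ hc hδ hδ']; trivial
    exact h

theorem nrm_Psi (hc : IsConj φ) {δ : K} (hδ : δ ≠ 0) (hδ' : φ δ = -δ) (g : suG (hB φ δ)) :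
    NrmT hφ (Psi hφ hc hδ hδ' g) :=
  nrmT_of_nrm hφ (phi_action (toSL δ g)).1

end Cfsg.Agent.E6Tw
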