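import Cfsg.Agent.E6Deg.Radical
import Cfsg.Agent.E6Tw.Elems

/-!
The fixed radical of `²E₆(q)` and the characters of its abelian quotient.
-/

set_option autoImplicit false
set_option maxRecDepth 100000

namespace Cfsg.Agent.E6Tw

open Cfsg.Lie Cfsg.Agent.E6Deg

universe u

/-- The operation of a fixed product of transvections. -/
def opT {K : Type u} [Field K] (φ : K →+* K) (i j : Fin 6) (c : K) (B : Fin 20 → K) : Fin 20 → K :=
  op j.rev i.rev ((kap i j : K) * φ c) (op i j c B)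

/-- The coordinates of fixed characters. -/
def RealB {K : Type u} [Field K] (φ : K →+* K) (B : Fin 20 → K) : Prop :=
  ∀ S, B S = (lam S : K) * φ (B (sS S))

variable {K : Type u} [Field K] {φ : K →+* K} (hφ : ∀ t, (φ ^ 2) t = t)

/-- The generators of the fixed radical. -/
def gensT : Set (GT hφ) :=
  Set.range (fun x : Fin 20 × K => yT hφ x.1 x.2) ∪ Set.range (zT hφ)

/-- The fixed radical. -/
def HT : Subgroup (GT hφ) := Subgroup.closure (gensT hφ)

theorem yT_mem (S : Fin 20) (u : K) : yT hφ S u ∈ HT hφ :=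
  Subgroup.subset_closure (Or.inl ⟨(S, u), rfl⟩)

theorem zT_mem (v : F0 φ) : zT hφ v ∈ HT hφ := Subgroup.subset_closure (Or.inr ⟨v, rfl⟩)

theorem inG_mem {h : GT hφ} (hh : h ∈ HT hφ) : inG hφ h ∈ HQ K := by
  refine ((Subgroup.closure_le _).2 ?_ : HT hφ ≤ (HQ K).comap (inG hφ)) hh
  rintro _ (⟨⟨S, u⟩, rfl⟩ | ⟨v, rfl⟩)
  · exact mul_mem (xs_mem S u) (xs_mem _ _)
  · exact zz_mem _

/-- The fixed radical inside the radical. -/
noncomputable def toHQ : ↥(HT hφ) →* ↥(HQ K) :=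
  ((inG hφ).comp (HT hφ).subtype).codRestrict (HQ K) fun h => inG_mem hφ h.2

theorem σp_HQ {h : Gp K} (hh : h ∈ HQ K) : σp hφ h ∈ HQ K := by
  refine ((Subgroup.closure_le _).2 ?_ : HQ K ≤ (HQ K).comap (σp hφ)) hh
  rintro _ (⟨⟨S, u⟩, rfl⟩ | ⟨v, rfl⟩)
  · show σp hφ (xs S u) ∈ HQ K
    rw [σp_xs]; exact xs_mem _ _
  · show σp hφ (zz v) ∈ HQ K
    rw [σp_zz]; exact zz_mem _

/-- The endomorphism of the radical. -/
noncomputable def σH : ↥(HQ K) →* ↥(HQ K) :=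
  ((σp hφ).comp (HQ K).subtype).codRestrict (HQ K) fun h => σp_HQ hφ h.2

/-- The fixed radical in the abelian quotient. -/
noncomputable def pi0 : ↥(HT hφ) →* QB K := (piQ K).comp (toHQ hφ)

/-- The fixed part of the abelian quotient. -/
noncomputable def QT : Subgroup (QB K) := (pi0 hφ).range

/-- The projection. -/
noncomputable def piT : ↥(HT hφ) →* ↥(QT hφ) := (pi0 hφ).rangeRestrict

theorem piT_surjective : Function.Surjective (piT hφ) := (pi0 hφ).rangeRestrict_surjective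

theorem om_mem (h : ↥(HQ K)) : piQ K h * piQ K (σH hφ h) ∈ QT hφ := by
  induction h using radical_induction with
  | hx S u =>
    refine ⟨⟨yT hφ S u, yT_mem hφ S u⟩, ?_⟩
    show piQ K (toHQ hφ _) = _
    rw [← map_mul]
    exact congrArg _ (Subtype.ext (congrArg (xs S u * ·) (σp_xs hφ S u).symm))
  | hz v =>
    rw [piQ_zz, show σH hφ ⟨zz v, zz_mem v⟩ = ⟨zz (φ v), zz_mem _⟩ from Subtype.ext (σp_zz hφ v),
      piQ_zz, one_mul]
    exact one_mem _
  | h1 => rw [map_one, map_one, map_one, one_mul]; exact one_mem _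
  | hm a b ha hb => rw [map_mul, map_mul, map_mul, mul_mul_mul_comm]; exact mul_mem ha hb
  | hi a ha => rw [map_inv, map_inv, map_inv, ← mul_inv]; exact inv_mem ha

/-- The norm from the radical to the fixed part of the quotient. -/
noncomputable def Om : ↥(HQ K) →* ↥(QT hφ) where
  toFun h := ⟨piQ K h * piQ K (σH hφ h), om_mem hφ h⟩
  map_one' := Subtype.ext (by simp)
  map_mul' a b := Subtype.ext (by
    show piQ K (a * b) * piQ K (σH hφ (a * b)) =
      piQ K a * piQ K (σH hφ a) * (piQ K b * piQ K (σH hφ b))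
    rw [map_mul, map_mul, map_mul, mul_mul_mul_comm])

theorem eq_zT {g : GT hφ} {w : K} (h : inG hφ g = zz w) :
    ∃ hw : φ w = w, g = zT hφ ⟨w, hw⟩ := by
  have e := σp_inG hφ g
  rw [h, σp_zz] at e
  exact ⟨zz_injective e, inG_injective hφ h⟩

theorem mem_HT_of {g : GT hφ} (h : ↥(HQ K))
    (e : inG hφ g = (h : Gp K) * (σH hφ h : Gp K)) : g ∈ HT hφ := by
  obtain ⟨h', hh'⟩ := om_mem hφ h
  have hone : piQ K ((toHQ hφ h')⁻¹ * (h * σH hφ h)) = 1 := by
    rw [map_mul, map_inv, map_mul, show piQ K (toHQ hφ h') = _ from hh', inv_mul_cancel]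
  obtain ⟨v, hv⟩ := (QuotientGroup.eq_one_iff _).1 hone
  have hv' : zz v.toAdd = inG hφ ((h' : GT hφ)⁻¹ * g) := by
    rw [map_mul, map_inv, e]
    exact congrArg Subtype.val hv
  obtain ⟨hw, hz⟩ := eq_zT hφ hv'.symm
  have e1 : g = h' * zT hφ ⟨_, hw⟩ := by rw [← hz, mul_inv_cancel_left]
  rw [e1]
  exact mul_mem h'.2 (zT_mem hφ _)

/-- An element normalising the radical and its highest root group. -/
def NrmT (g : GT hφ) : Prop :=
  (∀ h ∈ HQ K, inG hφ g * h * (inG hφ g)⁻¹ ∈ HQ K) ∧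
    ∀ v : K, ∃ w, inG hφ g * zz v * (inG hφ g)⁻¹ = zz w

theorem nrmT_of_nrm {g : GT hφ} (hg : Nrm (inG hφ g)) : NrmT hφ g :=
  ⟨hg.1, fun v => ⟨v, by rw [(hg.2 v).eq, mul_inv_cancel_right]⟩⟩

theorem conj_mem {g : GT hφ} (hg : NrmT hφ g) {h : GT hφ} (hh : h ∈ HT hφ) :
    g * h * g⁻¹ ∈ HT hφ := by
  refine ((Subgroup.closure_le _).2 ?_ :
    HT hφ ≤ (HT hφ).comap (MulAut.conj g).toMonoidHom) hh
  rintro _ (⟨⟨S, u⟩, rfl⟩ | ⟨v, rfl⟩)
  · refine mem_HT_of hφ ⟨_, hg.1 _ (xs_mem S u)⟩ ?_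
    show inG hφ (g * yT hφ S u * g⁻¹) = inG hφ g * xs S u * (inG hφ g)⁻¹ *
      σp hφ (inG hφ g * xs S u * (inG hφ g)⁻¹)
    rw [map_mul, map_mul, map_inv, map_mul, map_mul, map_inv, σp_inG, σp_xs, inG_yT, yP]
    group
  · obtain ⟨w, hw⟩ := hg.2 v
    obtain ⟨hw', hz⟩ := eq_zT hφ (g := g * zT hφ v * g⁻¹) (w := w)
      (by rw [map_mul, map_mul, map_inv, inG_zT, hw])
    show g * zT hφ v * g⁻¹ ∈ HT hφ
    rw [hz]
    exact zT_mem hφ _

/-- Conjugation on the fixed radical. -/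
noncomputable def conjT {g : GT hφ} (hg : NrmT hφ g) : ↥(HT hφ) →* ↥(HT hφ) where
  toFun h := ⟨g * h * g⁻¹, conj_mem hφ hg h.2⟩
  map_one' := Subtype.ext (by simp)
  map_mul' a b := Subtype.ext (by simp [mul_assoc])

theorem piT_ker {h : ↥(HT hφ)} (hh : piT hφ h = 1) : ∃ v : F0 φ, (h : GT hφ) = zT hφ v := by
  have h1 : piQ K (toHQ hφ h) = 1 := congrArg Subtype.val hh
  obtain ⟨v, hv⟩ := (QuotientGroup.eq_one_iff _).1 h1
  obtain ⟨hw, e⟩ := eq_zT hφ (g := (h : GT hφ)) (w := v.toAdd) (congrArg Subtype.val hv).symm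
  exact ⟨_, e⟩

theorem piT_zT (v : F0 φ) : piT hφ ⟨zT hφ v, zT_mem hφ v⟩ = 1 := Subtype.ext (piQ_zz (v : K))

theorem conjT_ker {g : GT hφ} (hg : NrmT hφ g) :
    (piT hφ).ker ≤ ((piT hφ).comp (conjT hφ hg)).ker := by
  intro h hh
  obtain ⟨v, hv⟩ := piT_ker hφ (h := h) hh
  obtain ⟨w, hw⟩ := hg.2 v
  obtain ⟨hw', hz⟩ := eq_zT hφ (g := g * zT hφ v * g⁻¹) (w := w)
    (by rw [map_mul, map_mul, map_inv, inG_zT, hw])
  rw [MonoidHom.mem_ker, MonoidHom.comp_apply,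
    show conjT hφ hg h = ⟨zT hφ ⟨w, hw'⟩, zT_mem hφ _⟩ from
      Subtype.ext (show g * (h : GT hφ) * g⁻¹ = _ by rw [hv, hz])]
  exact piT_zT hφ _

/-- Conjugation on the fixed part of the quotient. -/
noncomputable def conjQ {g : GT hφ} (hg : NrmT hφ g) : ↥(QT hφ) →* ↥(QT hφ) :=
  (piT hφ).liftOfSurjective (piT_surjective hφ) ⟨(piT hφ).comp (conjT hφ hg), conjT_ker hφ hg⟩

theorem conjQ_piT {g : GT hφ} (hg : NrmT hφ g) (h : ↥(HT hφ)) :
    conjQ hφ hg (piT hφ h) = piT hφ (conjT hφ hg h) :=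
  MonoidHom.liftOfRightInverse_comp_apply _ _ _ _ h

variable [Fintype K]

/-- A primitive invariant character of the field. -/
noncomputable def psiT (φ : K →+* K) : AddChar K ℂ :=
  letI := Classical.dec (IsConj φ)
  if h : IsConj φ then h.exists_inv_char.choose else 1

variable (hc : IsConj φ)

include hc in
theorem psiT_prim : (psiT φ).IsPrimitive := by
  rw [psiT, dif_pos hc]; exact hc.exists_inv_char.choose_spec.1

include hc in
theorem psiT_inv (x : K) : psiT φ (φ x) = psiT φ x := by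
  rw [psiT, dif_pos hc]; exact hc.exists_inv_char.choose_spec.2 x

theorem yT_add (S : Fin 20) (a b : K) : yT hφ S (a + b) = yT hφ S a * yT hφ S b := by
  refine inG_injective hφ ?_
  rw [map_mul, inG_yT, inG_yT, inG_yT, yP, yP, yP, map_add, mul_add, xs_add, xs_add,
    (xs_commute (S := S) (S' := sS S) (chk_sigmaQ S).2.2.2.1 b _).symm.mul_mul_mul_comm]

theorem yT_zero (S : Fin 20) : yT hφ S 0 = 1 := by
  have h := yT_add hφ S 0 0
  rw [add_zero, left_eq_mul] at h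
  exact h

/-- The value of a character at a fixed element. -/
noncomputable def lamY (Λ : AddChar (Additive ↥(QT hφ)) ℂ) (S : Fin 20) : AddChar K ℂ where
  toFun u := lamH (piT hφ) Λ ⟨yT hφ S u, yT_mem hφ S u⟩
  map_zero_eq_one' := by
    rw [show (⟨yT hφ S 0, yT_mem hφ S 0⟩ : ↥(HT hφ)) = 1 from Subtype.ext (yT_zero hφ S), lamH_one]
  map_add_eq_mul' a b := by
    rw [← lamH_mul]
    exact congrArg _ (Subtype.ext (yT_add hφ S a b))

include hc in
theorem exists_coordT (Λ : AddChar (Additive ↥(QT hφ)) ℂ) (S : Fin 20) :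
    ∃ B : K, ∀ u, lamH (piT hφ) Λ ⟨yT hφ S u, yT_mem hφ S u⟩ = psiT φ (B * u) := by
  obtain ⟨B, hB⟩ := ((Fintype.bijective_iff_injective_and_card _).2
    ⟨AddChar.to_mulShift_inj_of_isPrimitive (psiT_prim hc), AddChar.card_eq.symm⟩).2 (lamY hφ Λ S)
  refine ⟨B, fun u => ?_⟩
  have h := DFunLike.congr_fun hB u
  rw [AddChar.mulShift_apply] at h
  exact h.symm

/-- The coordinates of a character. -/
noncomputable def BT (Λ : AddChar (Additive ↥(QT hφ)) ℂ) : Fin 20 → K :=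
  fun S => (exists_coordT hφ hc Λ S).choose

theorem BT_spec (Λ : AddChar (Additive ↥(QT hφ)) ℂ) (S : Fin 20) (u : K) :
    lamH (piT hφ) Λ ⟨yT hφ S u, yT_mem hφ S u⟩ = psiT φ (BT hφ hc Λ S * u) :=
  (exists_coordT hφ hc Λ S).choose_spec u

theorem BT_eq {Λ : AddChar (Additive ↥(QT hφ)) ℂ} {S : Fin 20} {b : K}
    (h : ∀ u, lamH (piT hφ) Λ ⟨yT hφ S u, yT_mem hφ S u⟩ = psiT φ (b * u)) :
    BT hφ hc Λ S = b := by
  refine AddChar.to_mulShift_inj_of_isPrimitive (psiT_prim hc) (DFunLike.ext _ _ fun u => ?_)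
  rw [AddChar.mulShift_apply, AddChar.mulShift_apply, ← BT_spec, h]

theorem BT_real (Λ : AddChar (Additive ↥(QT hφ)) ℂ) : RealB φ (BT hφ hc Λ) := fun S => by
  obtain ⟨-, -, -, hne, hss, hll⟩ := chk_sigmaQ S
  refine BT_eq hφ hc fun u => ?_
  have e : yT hφ S u = yT hφ (sS S) ((lam S : K) * φ u) := by
    refine inG_injective hφ ?_
    rw [inG_yT, inG_yT, yP, yP, hss, map_mul, map_intCast, hc.invol, ← mul_assoc, ← Int.cast_mul,
      mul_comm (lam (sS S)), hll, Int.cast_one, one_mul]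
    exact (xs_commute (S := S) (S' := sS S) hne u _).eq.symm
  have e' : (⟨yT hφ S u, yT_mem hφ S u⟩ : ↥(HT hφ)) =
      ⟨yT hφ (sS S) ((lam S : K) * φ u), yT_mem hφ _ _⟩ := Subtype.ext e
  rw [e', BT_spec hφ hc, ← psiT_inv hc, map_mul φ, map_mul φ, map_intCast, hc.invol]
  congr 1
  ring

theorem lamT_zT (Λ : AddChar (Additive ↥(QT hφ)) ℂ) (v : F0 φ) :
    lamH (piT hφ) Λ ⟨zT hφ v, zT_mem hφ v⟩ = 1 := by
  rw [lamH, piT_zT, ofMul_one, AddChar.map_zero_eq_one]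

theorem BT_injective : Function.Injective (BT hφ hc) := by
  intro Λ Λ' h
  refine DFunLike.ext _ _ fun a => ?_
  obtain ⟨x, hx⟩ := piT_surjective hφ a.toMul
  have key : ∀ g (hg : g ∈ HT hφ), lamH (piT hφ) Λ ⟨g, hg⟩ = lamH (piT hφ) Λ' ⟨g, hg⟩ := by
    intro g hg
    refine Subgroup.closure_induction (p := fun g hg =>
      lamH (piT hφ) Λ ⟨g, hg⟩ = lamH (piT hφ) Λ' ⟨g, hg⟩) ?_ ?_ ?_ ?_ hg
    · rintro _ (⟨⟨S, u⟩, rfl⟩ | ⟨v, rfl⟩)
      · exact (BT_spec hφ hc Λ S u).trans ((congrArg (fun B => psiT φ (B S * u)) h).trans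
          (BT_spec hφ hc Λ' S u).symm)
      · exact (lamT_zT hφ Λ v).trans (lamT_zT hφ Λ' v).symm
    · exact (lamH_one _ _).trans (lamH_one _ _).symm
    · intro a b ha hb h1 h2
      rw [show (⟨a * b, mul_mem ha hb⟩ : ↥(HT hφ)) = ⟨a, ha⟩ * ⟨b, hb⟩ from rfl, lamH_mul, lamH_mul,
        h1, h2]
    · intro a ha h1
      have e1 := lamH_inv_mul (piT hφ) Λ ⟨a, ha⟩
      have e2 := lamH_inv_mul (piT hφ) Λ' ⟨a, ha⟩
      rw [h1] at e1
      exact mul_right_cancel₀ (right_ne_zero_of_mul_eq_one e2) (e1.trans e2.symm)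
  simpa only [lamH, Subtype.coe_eta, hx, ofMul_toMul] using key x.1 x.2

theorem BT_zero : BT hφ hc 0 = 0 := funext fun S => BT_eq hφ hc fun u => by
  rw [lamH, Pi.zero_apply, zero_mul, AddChar.map_zero_eq_one, AddChar.zero_apply]

theorem BT_eq_zero {Λ : AddChar (Additive ↥(QT hφ)) ℂ} (h : BT hφ hc Λ = 0) : Λ = 0 :=
  BT_injective hφ hc (h.trans (BT_zero hφ hc).symm)

/-- The transformed character. -/
noncomputable def actT {g : GT hφ} (hg : NrmT hφ g) (Λ : AddChar (Additive ↥(QT hφ)) ℂ) :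
    AddChar (Additive ↥(QT hφ)) ℂ :=
  Λ.compAddMonoidHom (conjQ hφ hg).toAdditive

/-- Conjugation on the fixed radical, as a bijection. -/
noncomputable def conjTE {g : GT hφ} (hg : NrmT hφ g) : ↥(HT hφ) ≃ ↥(HT hφ) :=
  Equiv.ofBijective (conjT hφ hg) (Finite.injective_iff_bijective.1 fun a b h => Subtype.ext
    (mul_left_cancel (mul_right_cancel (congrArg Subtype.val h))))

theorem conjTE_val {g : GT hφ} (hg : NrmT hφ g) (h : ↥(HT hφ)) :
    (conjTE hφ hg h : GT hφ) = g * h * g⁻¹ := rfl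

theorem lamH_actT {g : GT hφ} (hg : NrmT hφ g) (Λ : AddChar (Additive ↥(QT hφ)) ℂ)
    (h : ↥(HT hφ)) : lamH (piT hφ) (actT hφ hg Λ) h = lamH (piT hφ) Λ (conjTE hφ hg h) := by
  show Λ (Additive.ofMul (conjQ hφ hg (piT hφ h))) = _
  rw [conjQ_piT]
  rfl

theorem actT_zero {g : GT hφ} (hg : NrmT hφ g) :
    actT hφ hg (0 : AddChar (Additive ↥(QT hφ)) ℂ) = 0 :=
  DFunLike.ext _ _ fun _ => rfl

/-- A character read on the radical. -/
noncomputable def lamE (Λ : AddChar (Additive ↥(QT hφ)) ℂ) : ↥(HQ K) →* ℂ :=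
  Λ.toMonoidHom.comp
    (AddMonoidHom.toMultiplicative (Om hφ).toAdditive : Multiplicative (Additive ↥(HQ K)) →* _)
  |>.comp { toFun := fun h => Multiplicative.ofAdd (Additive.ofMul h)
            map_one' := rfl
            map_mul' := fun _ _ => rfl }

theorem lamE_apply (Λ : AddChar (Additive ↥(QT hφ)) ℂ) (h : ↥(HQ K)) :
    lamE hφ Λ h = Λ (Additive.ofMul (Om hφ h)) := rfl

theorem lamE_xs (Λ : AddChar (Additive ↥(QT hφ)) ℂ) (S : Fin 20) (u : K) :
    lamE hφ Λ ⟨xs S u, xs_mem S u⟩ = psiT φ (BT hφ hc Λ S * u) := by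
  rw [← BT_spec, lamE_apply, lamH]
  refine congrArg (fun x => Λ (Additive.ofMul x)) (Subtype.ext ?_)
  show piQ K _ * piQ K (σH hφ _) = piQ K (toHQ hφ _)
  rw [← map_mul]
  exact congrArg _ (Subtype.ext (congrArg (xs S u * ·) (σp_xs hφ S u)))

/-- The coordinates of a transformed character. -/
theorem BT_act {g : GT hφ} (hg : NrmT hφ g) (Λ : AddChar (Additive ↥(QT hφ)) ℂ) (S : Fin 20)
    {b : K} (h : ∀ u, lamE hφ Λ ⟨_, hg.1 _ (xs_mem S u)⟩ = psiT φ (b * u)) :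
    BT hφ hc (actT hφ hg Λ) S = b := by
  refine BT_eq hφ hc fun u => ?_
  rw [lamH_actT, ← h, lamE_apply, lamH]
  refine congrArg (fun x => Λ (Additive.ofMul x)) (Subtype.ext ?_)
  show piQ K (toHQ hφ _) = piQ K _ * piQ K (σH hφ _)
  rw [← map_mul]
  refine congrArg _ (Subtype.ext ?_)
  show inG hφ (g * yT hφ S u * g⁻¹) = inG hφ g * xs S u * (inG hφ g)⁻¹ *
    σp hφ (inG hφ g * xs S u * (inG hφ g)⁻¹)
  rw [map_mul, map_mul, map_inv, map_mul, map_mul, map_inv, σp_inG, σp_xs, inG_yT, yP]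
  group

/-- Coordinates of a multiplicative function on the radical. -/
def Coord (f : ↥(HQ K) →* ℂ) (B : Fin 20 → K) : Prop :=
  ∀ S u, f ⟨xs S u, xs_mem S u⟩ = psiT φ (B S * u)

omit hφ hc in
theorem coord_op {f : ↥(HQ K) →* ℂ} {B : Fin 20 → K} (hf : Coord (φ := φ) f B) {i j : Fin 6}
    (hij : i ≠ j) (a : K) :
    Coord (φ := φ) (f.comp (conjH (nrm_xl hij a))) (op i j a B) := by
  intro S u
  show f (conjH (nrm_xl hij a) ⟨xs S u, xs_mem S u⟩) = _
  rw [show conjH (nrm_xl hij a) ⟨xs S u, xs_mem S u⟩ =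
      ⟨xs S u, xs_mem S u⟩ * ⟨xsO (opTgt i j S) (a * u), xsO_mem _ _⟩ from
    Subtype.ext (xl_conj i j hij S a u), map_mul, hf, op, add_mul, AddChar.map_add_eq_mul]
  congr 1
  cases opTgt i j S with
  | none =>
    show f ⟨1, _⟩ = psiT φ (a * ev _ none * u)
    rw [show (⟨1, _⟩ : ↥(HQ K)) = 1 from rfl, map_one, ev, mul_zero, zero_mul,
      AddChar.map_zero_eq_one]
  | some x =>
    obtain ⟨m, s⟩ := x
    show f ⟨xs m ((s : K) * (a * u)), _⟩ = _
    rw [hf, ev]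
    congr 1
    ring

omit [Fintype K] in
theorem nrm_xT {i j : Fin 6} (hij : i ≠ j) (c : K) : NrmT hφ (xT hφ hij c) :=
  nrmT_of_nrm hφ (by rw [inG_xT]; exact nrm_mul (nrm_xl hij c) (nrm_xl (rev_ne hij) _))

theorem BT_xT {i j : Fin 6} (hij : i ≠ j) (c : K) (Λ : AddChar (Additive ↥(QT hφ)) ℂ) :
    BT hφ hc (actT hφ (nrm_xT hφ hij c) Λ) = opT φ i j c (BT hφ hc Λ) := by
  have h := coord_op (coord_op (φ := φ) (f := lamE hφ Λ) (lamE_xs hφ hc Λ) hij c) (rev_ne hij)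
    ((kap i j : K) * φ c)
  funext S
  refine BT_act hφ hc _ Λ S fun u => (congrArg (lamE hφ Λ) (Subtype.ext ?_)).trans (h S u)
  show xP φ i j c * xs S u * (xP φ i j c)⁻¹ =
    xl i j c * (xl j.rev i.rev _ * xs S u * (xl j.rev i.rev _)⁻¹) * (xl i j c)⁻¹
  rw [xP]
  group

end Cfsg.Agent.E6Tw
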