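import Cfsg.Agent.E6Deg.Dichotomy
import Cfsg.Agent.E6Tw.Radical

/-!
The fixed operations on coordinates and the cells of their orbit on the decomposable points.
-/

set_option autoImplicit false
set_option maxRecDepth 100000

namespace Cfsg.Agent.E6Tw

open Cfsg.Agent.E6Deg

universe u

/-- The coordinates at the centres of the cells. -/
def cN (c : Fin 8) : Fin 20 := ([0, 1, 5, 7, 12, 14, 18, 19] : List (Fin 20)).getD c.1 0

/-- The pairs of a cell. -/
def cL (c : Fin 8) : List (Fin 6 × Fin 6) :=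
  ((List.finRange 6).flatMap fun i => (List.finRange 6).map fun j => (i, j)).filter fun p =>
    decide (p.1 < p.2) && (List.finRange 3).any (fun x => tri (cN c) x == p.1) &&
      !((List.finRange 3).any fun x => tri (cN c) x == p.2)

/-- The number of pairs of a cell. -/
abbrev cLen (c : Fin 8) : ℕ := (cL c).length

/-- A pair of a cell. -/
def cP (c : Fin 8) (k : Fin (cLen c)) : Fin 6 × Fin 6 := (cL c).get k

/-- The coordinate moved by a pair. -/
def cTgt (c : Fin 8) (k : Fin (cLen c)) : Fin 20 :=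
  ((List.finRange 20).find? fun m =>
    (opTgt (cP c k).1 (cP c k).2 m).map Prod.fst == some (cN c)).getD 0

/-- The sign of a pair. -/
def cSg (c : Fin 8) (k : Fin (cLen c)) : ℤ :=
  ((opTgt (cP c k).1 (cP c k).2 (cTgt c k)).map Prod.snd).getD 0

/-- The partner of a pair. -/
def cTau (c : Fin 8) (k : Fin (cLen c)) : Fin (cLen c) :=
  ((List.finRange (cLen c)).find? fun l => cP c l == ((cP c k).2.rev, (cP c k).1.rev)).getD k

/-- The sign of the partner. -/
def cKap (c : Fin 8) (k : Fin (cLen c)) : ℤ := kap (cP c (cTau c k)).1 (cP c (cTau c k)).2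

theorem chk_cell : ∀ c k, (cP c k).1 ≠ (cP c k).2 ∧
    opTgt (cP c k).1 (cP c k).2 (cN c) = none ∧
    (∀ l, opTgt (cP c k).1 (cP c k).2 (cTgt c l) = if k = l then some (cN c, cSg c k) else none) ∧
    cP c (cTau c k) = ((cP c k).2.rev, (cP c k).1.rev) := by
  decide +kernel

theorem chk_cell_tau : ∀ c k, cTau c (cTau c k) = k ∧ cKap c k * cKap c (cTau c k) = 1 ∧
    (cSg c k = 1 ∨ cSg c k = -1) ∧ cTgt c k ≠ cN c ∧ sS (cTgt c k) = cTgt c (cTau c k) ∧
    lam (cTgt c k) * cSg c (cTau c k) = cKap c k * cSg c k := by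
  decide +kernel

theorem chk_cell_below : ∀ c k, ∀ m : Fin 20, m < cN c →
    ∀ x ∈ opTgt (cP c k).1 (cP c k).2 m, x.1 < m := by
  decide +kernel

theorem chk_centre : (∀ c, sS (cN c) = cN c ∧ lam (cN c) = 1) ∧ Function.Injective cN := by
  decide +kernel

variable {K : Type u} [Field K] {φ : K →+* K}

/-- Closed under the fixed operations. -/
def ClosedT (φ : K →+* K) (S : Set (Fin 20 → K)) : Prop :=
  ∀ i j, i ≠ j → ∀ c, ∀ B ∈ S, opT φ i j c B ∈ S

theorem opT_zero_c (i j : Fin 6) (B : Fin 20 → K) : opT φ i j 0 B = B := by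
  rw [opT, map_zero, mul_zero, op_zero_c, op_zero_c]

theorem opT_injective {i j : Fin 6} (hij : i ≠ j) (c : K) :
    Function.Injective (opT φ i j c : (Fin 20 → K) → Fin 20 → K) :=
  fun _ _ h => op_injective hij c (op_injective (rev_ne hij) _ h)

theorem ev_some (B : Fin 20 → K) (m : Fin 20) (s : ℤ) : ev B (some (m, s)) = (s : K) * B m := rfl

theorem ev_none (B : Fin 20 → K) : ev B none = 0 := rfl

/-- A fixed operation can make a coordinate nonzero. -/
theorem raise (hc : IsConj φ) {i j : Fin 6} {n n' : Fin 20}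
    (h : opTgt i j n' = some (n, 1) ∨ opTgt i j n' = some (n, -1)) {B : Fin 20 → K} (hn : B n ≠ 0) :
    ∃ c, opT φ i j c B n' ≠ 0 := by
  obtain ⟨s, hs, hs'⟩ : ∃ s : ℤ, opTgt i j n' = some (n, s) ∧ (s : K) ≠ 0 := by
    rcases h with h | h
    · exact ⟨1, h, by simp⟩
    · exact ⟨-1, h, by simp⟩
  have hA : (s : K) * B n ≠ 0 := mul_ne_zero hs' hn
  cases hx : opTgt j.rev i.rev n' with
  | none =>
    obtain ⟨c, hc⟩ := hc.exists_ne (b := B n') (A' := 0) (Q := 0) hA
    refine ⟨c, fun e => hc ?_⟩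
    simp only [opT, op, hs, hx, ev_some, ev_none] at e
    linear_combination e
  | some x =>
    obtain ⟨m, t⟩ := x
    obtain ⟨c, hc⟩ := hc.exists_ne (b := B n') (A' := (kap i j : K) * (t : K) * B m)
      (Q := (kap i j : K) * (t : K) * ev B (opTgt i j m)) hA
    refine ⟨c, fun e => hc ?_⟩
    simp only [opT, op, hs, hx, ev_some, ev_none] at e
    linear_combination e

/-- The composite operation of a cell. -/
def trvT (φ : K →+* K) (c : Fin 8) (u : Fin (cLen c) → K) :
    List (Fin (cLen c)) → (Fin 20 → K) → Fin 20 → K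
  | [], B => B
  | k :: l, B => opT φ (cP c k).1 (cP c k).2 (u k) (trvT φ c u l B)

theorem trvT_mem {S : Set (Fin 20 → K)} (c : Fin 8) (u : Fin (cLen c) → K)
    (hS : ∀ k, u k ≠ 0 → ∀ B ∈ S, opT φ (cP c k).1 (cP c k).2 (u k) B ∈ S) :
    ∀ l, ∀ B ∈ S, trvT φ c u l B ∈ S
  | [], _, h => h
  | k :: l, B, h => by
    show opT φ _ _ (u k) (trvT φ c u l B) ∈ S
    by_cases hu : u k = 0
    · rw [hu, opT_zero_c]; exact trvT_mem c u hS l B h
    · exact hS k hu _ (trvT_mem c u hS l B h)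

theorem trvT_injective (c : Fin 8) (u : Fin (cLen c) → K) :
    ∀ l, Function.Injective (trvT φ c u l)
  | [] => fun _ _ h => h
  | k :: l => fun _ _ h => trvT_injective c u l (opT_injective (chk_cell c k).1 _ h)

theorem op_cell (c : Fin 8) (k : Fin (cLen c)) (v : K) (B : Fin 20 → K) :
    op (cP c k).1 (cP c k).2 v B (cN c) = B (cN c) ∧
    ∀ l, op (cP c k).1 (cP c k).2 v B (cTgt c l) = B (cTgt c l) +
      (if k = l then v else 0) * ((cSg c l : K) * B (cN c)) := by
  obtain ⟨-, h0, h1, -⟩ := chk_cell c k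
  refine ⟨by simp [op, h0, ev_none], fun l => ?_⟩
  simp only [op, h1]
  by_cases ha : k = l
  · subst ha
    simp [ev_some]
  · simp [ha, ev_none]

theorem opT_cell (c : Fin 8) (k : Fin (cLen c)) (v : K) (B : Fin 20 → K) :
    opT φ (cP c k).1 (cP c k).2 v B (cN c) = B (cN c) ∧
    ∀ l, opT φ (cP c k).1 (cP c k).2 v B (cTgt c l) = B (cTgt c l) +
      ((if k = l then v else 0) +
        (if cTau c k = l then (kap (cP c k).1 (cP c k).2 : K) * φ v else 0)) *
          ((cSg c l : K) * B (cN c)) := by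
  obtain ⟨a0, a1⟩ := op_cell c k v B
  obtain ⟨b0, b1⟩ := op_cell c (cTau c k) ((kap (cP c k).1 (cP c k).2 : K) * φ v)
    (op (cP c k).1 (cP c k).2 v B)
  rw [(chk_cell c k).2.2.2] at b0 b1
  refine ⟨b0.trans a0, fun l => (b1 l).trans ?_⟩
  rw [a0, a1 l]
  ring

theorem trvT_n (c : Fin 8) (u : Fin (cLen c) → K) (B : Fin 20 → K) :
    ∀ l, trvT φ c u l B (cN c) = B (cN c)
  | [] => rfl
  | k :: l => ((opT_cell c k _ _).1).trans (trvT_n c u B l)

theorem trvT_tgt (c : Fin 8) (u : Fin (cLen c) → K) (B : Fin 20 → K) (m : Fin (cLen c)) :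
    ∀ l : List (Fin (cLen c)), trvT φ c u l B (cTgt c m) = B (cTgt c m) +
      (l.map fun k => (if k = m then u k else 0) +
        (if cTau c k = m then (kap (cP c k).1 (cP c k).2 : K) * φ (u k) else 0)).sum *
          ((cSg c m : K) * B (cN c))
  | [] => by simp [trvT]
  | k :: l => by
    refine ((opT_cell c k _ _).2 m).trans ?_
    rw [trvT_n, trvT_tgt c u B m l, List.map_cons, List.sum_cons]
    ring

/-- The data of the involution on the parameters of a cell. -/
def kapV (K : Type u) [Field K] (c : Fin 8) (k : Fin (cLen c)) : K := (cKap c k : K)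

theorem cell_inv (c : Fin 8) : InvData φ (cTau c) (kapV K c) := fun m => by
  obtain ⟨h1, h2, -⟩ := chk_cell_tau c m
  refine ⟨h1, ?_⟩
  rw [kapV, kapV, map_intCast, ← Int.cast_mul, h2, Int.cast_one]

/-- Translation by real parameters. -/
def trR (φ : K →+* K) (θ : K) (c : Fin 8) (t : Fin (cLen c) → K) :
    (Fin 20 → K) → Fin 20 → K :=
  trvT φ c (fun k => θ * t k) (List.finRange _)

theorem trR_n (θ : K) (c : Fin 8) (t : Fin (cLen c) → K) (B : Fin 20 → K) :
    trR φ θ c t B (cN c) = B (cN c) := trvT_n c _ B _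

theorem trR_tgt {θ : K} (hθ : θ + φ θ = 1) (c : Fin 8) {t : Fin (cLen c) → K}
    (ht : t ∈ RV φ (cTau c) (kapV K c)) (B : Fin 20 → K) (m : Fin (cLen c)) :
    trR φ θ c t B (cTgt c m) = B (cTgt c m) + t m * ((cSg c m : K) * B (cN c)) := by
  rw [trR, trvT_tgt, ← Fin.sum_univ_def, Finset.sum_add_distrib]
  simp only [show ∀ k, cTau c k = m ↔ k = cTau c m from fun k =>
    ⟨fun e => by rw [← e, (chk_cell_tau c k).1], fun e => by rw [e, (chk_cell_tau c m).1]⟩,
    Finset.sum_ite_eq', Finset.mem_univ, if_true]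
  have e : t m = (cKap c m : K) * φ (t (cTau c m)) := mem_RV.1 ht m
  rw [map_mul]
  show B (cTgt c m) + (θ * t m + (cKap c m : K) * (φ θ * φ (t (cTau c m)))) * _ = _
  linear_combination (cSg c m : K) * B (cN c) * t m * hθ - φ θ * (cSg c m : K) * B (cN c) * e

theorem opT_below (c : Fin 8) (k : Fin (cLen c)) (v : K) {B : Fin 20 → K}
    (hB : ∀ m < cN c, B m = 0) : ∀ m < cN c, opT φ (cP c k).1 (cP c k).2 v B m = 0 := by
  have key : ∀ (k : Fin (cLen c)) (w : K) {B : Fin 20 → K}, (∀ m < cN c, B m = 0) →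
      ∀ m < cN c, op (cP c k).1 (cP c k).2 w B m = 0 := by
    intro k w B hB m hm
    simp only [op, hB m hm, zero_add]
    cases h : opTgt (cP c k).1 (cP c k).2 m with
    | none => simp [ev]
    | some x =>
      have := chk_cell_below c k m hm x (by rw [h]; rfl)
      obtain ⟨x, s⟩ := x
      simp [ev, hB x (this.trans hm)]
  intro m hm
  have h := key (cTau c k) ((kap (cP c k).1 (cP c k).2 : K) * φ v) (key k v hB) m hm
  rw [(chk_cell c k).2.2.2] at h
  exact h

theorem trR_below (θ : K) (c : Fin 8) (t : Fin (cLen c) → K) {B : Fin 20 → K}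
    (hB : ∀ m < cN c, B m = 0) : ∀ m < cN c, trR φ θ c t B m = 0 :=
  trvT_mem (S := {B | ∀ m < cN c, B m = 0}) c _ (fun k _ _ h => opT_below c k _ h) _ B hB

/-- The seeds of the orbit. -/
def seed (c : Fin 8) (α : K) : Fin 20 → K := Pi.single (cN c) α

/-- The orbit of the decomposable points with real coordinates. -/
def Orb (φ : K →+* K) (B : Fin 20 → K) : Prop :=
  ∀ S : Set (Fin 20 → K), ClosedT φ S → (∀ c α, φ α = α → α ≠ 0 → seed c α ∈ S) → B ∈ S

theorem orb_seed (c : Fin 8) {α : K} (hα : φ α = α) (h0 : α ≠ 0) : Orb φ (seed c α) :=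
  fun _ _ hs => hs c α hα h0

theorem orb_closed : ClosedT φ {B | Orb φ B} :=
  fun i j hij c _ hB S hS hs => hS i j hij c _ (hB S hS hs)

theorem orb_trR (θ : K) (c : Fin 8) (t : Fin (cLen c) → K) {B : Fin 20 → K} (hB : Orb φ B) :
    Orb φ (trR φ θ c t B) :=
  trvT_mem (S := {B | Orb φ B}) c _ (fun k _ => orb_closed _ _ (chk_cell c k).1 _) _ B hB

theorem chk_single : ∀ m n : Fin 20, m ≠ n → ∃ b, ∀ a, tri m b ≠ tri n a := by decide +kernel

theorem single_mem (n : Fin 20) {α : K} (hα : α ≠ 0) : Pi.single n α ∈ Gr K := by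
  let M : Matrix (Fin 3) (Fin 6) K := Matrix.of fun a b => if b = tri n a then 1 else 0
  have h1 : p M n = 1 := by
    have e : M.submatrix id (tri n) = 1 := by
      ext a b
      by_cases hab : a = b
      · subst hab; simp [M]
      · simp [M, Matrix.one_apply_ne hab]
        exact fun e => hab (tri_inj n b a e).symm
    rw [p, e, Matrix.det_one]
  refine ⟨(Matrix.diagonal ![α, 1, 1] : Matrix (Fin 3) (Fin 3) K) * M,
    li_of_p_ne (n := n) (by rw [p_mul, Pi.smul_apply, h1]; simpa [Fin.prod_univ_three] using hα), ?_⟩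
  funext m
  rw [p_mul, Pi.smul_apply, Matrix.det_diagonal, Fin.prod_univ_three]
  by_cases hm : m = n
  · subst hm; simp [h1]
  · obtain ⟨b, hb⟩ := chk_single m n hm
    have : p M m = 0 := Matrix.det_eq_zero_of_column_eq_zero b fun a => if_neg (hb a)
    simp [this, Pi.single_eq_of_ne hm]

theorem orb_subset {B : Fin 20 → K} (hB : Orb φ B) : B ∈ Gr K := by
  have hcl : ∀ i j, i ≠ j → ∀ c, ∀ B ∈ Gr K, op i j c B ∈ Gr K := by
    rintro i j hij c _ ⟨M, hM, rfl⟩
    exact ⟨M * (Matrix.SpecialLinearGroup.transvection hij c :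
      Matrix.SpecialLinearGroup (Fin 6) K).1, li_mul hM _, p_mul_transvection M hij c⟩
  exact hB _ (fun i j hij c B h => hcl _ _ (rev_ne hij) _ _ (hcl i j hij c B h))
    fun c α _ h0 => single_mem (cN c) h0

/-! ### Counting -/

/-- The nonzero fixed scalars. -/
abbrev RU (φ : K →+* K) := {α : K // φ α = α ∧ α ≠ 0}

theorem card_RU [Fintype K] (hc : IsConj φ) {q : ℕ} (hK : Fintype.card K = q ^ 2) :
    Nat.card (RU φ) = q - 1 := by
  classical
  have h1 := hc.card_F0 hK
  rw [← h1, Nat.card_congr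
    { toFun := fun a : RU φ => (⟨⟨a.1, a.2.1⟩, fun e => a.2.2 (congrArg Subtype.val e)⟩ :
        {x : F0 φ // x ≠ 0})
      invFun := fun x => ⟨x.1.1, F0_fix x.1, fun e => x.2 (Subtype.ext e)⟩
      left_inv := fun _ => rfl
      right_inv := fun _ => rfl }]
  haveI := Fintype.ofFinite (F0 φ)
  rw [Nat.card_eq_fintype_card, Nat.card_eq_fintype_card, Fintype.card_subtype_compl,
    Fintype.card_subtype_eq]

/-- A point of a cell. -/
def cellPt (φ : K →+* K) (θ : K) (c : Fin 8) (t : Fin (cLen c) → K) (α : K) : Fin 20 → K :=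
  trR φ θ c t (seed c α)

theorem cellPt_n (θ : K) (c : Fin 8) (t : Fin (cLen c) → K) (α : K) :
    cellPt φ θ c t α (cN c) = α := by
  rw [cellPt, trR_n, seed, Pi.single_eq_same]

theorem cellPt_tgt {θ : K} (hθ : θ + φ θ = 1) {c : Fin 8} {t : Fin (cLen c) → K}
    (ht : t ∈ RV φ (cTau c) (kapV K c)) (α : K) (m : Fin (cLen c)) :
    cellPt φ θ c t α (cTgt c m) = t m * ((cSg c m : K) * α) := by
  rw [cellPt, trR_tgt hθ c ht, seed, Pi.single_eq_same,
    Pi.single_eq_of_ne (chk_cell_tau c m).2.2.2.1, zero_add]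

theorem cellPt_below (θ : K) (c : Fin 8) (t : Fin (cLen c) → K) (α : K) :
    ∀ m < cN c, cellPt φ θ c t α m = 0 :=
  trR_below θ c t fun _ hm => Pi.single_eq_of_ne hm.ne _

/-- Lower bounds on parts of the orbit from its cells. -/
theorem orb_count [Fintype K] {θ : K} (hθ : θ + φ θ = 1) {P : (Fin 20 → K) → Prop}
    (W : ∀ c, Set (Fin (cLen c) → K)) (hW : ∀ c, ∀ t ∈ W c, t ∈ RV φ (cTau c) (kapV K c))
    (hP : ∀ c, ∀ t ∈ W c, ∀ α : RU φ, P (cellPt φ θ c t α)) :
    Nat.card (RU φ) * ∑ c, Nat.card (W c) ≤ Nat.card {B : Fin 20 → K // Orb φ B ∧ P B} := by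
  classical
  rw [← Nat.card_sigma, ← Nat.card_prod]
  refine Nat.card_le_card_of_injective
    (fun x => (⟨cellPt φ θ x.2.1 x.2.2.1 x.1, orb_trR θ _ _ (orb_seed _ x.1.2.1 x.1.2.2),
      hP _ _ x.2.2.2 x.1⟩ : {B : Fin 20 → K // Orb φ B ∧ P B})) ?_
  rintro ⟨α, c, t, ht⟩ ⟨β, d, t', ht'⟩ h
  have h' : cellPt φ θ c t α = cellPt φ θ d t' β := congrArg Subtype.val h
  rcases lt_trichotomy (cN c) (cN d) with hlt | heq | hlt
  · have := congrFun h' (cN c)
    rw [cellPt_n, cellPt_below θ d t' β _ hlt] at this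
    exact absurd this α.2.2
  · obtain rfl := chk_centre.2 heq
    have e0 : α = β := Subtype.ext (by
      have := congrFun h' (cN c)
      rwa [cellPt_n, cellPt_n] at this)
    subst e0
    have et : t = t' := funext fun m => by
      have := congrFun h' (cTgt c m)
      rw [cellPt_tgt hθ (hW c t ht), cellPt_tgt hθ (hW c t' ht')] at this
      exact mul_right_cancel₀ (mul_ne_zero (sg_ne (chk_cell_tau c m).2.2.1) α.2.2) this
    subst et
    rfl
  · have := congrFun h' (cN d)
    rw [cellPt_n, cellPt_below θ c t α _ hlt] at this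
    exact absurd this.symm β.2.2

end Cfsg.Agent.E6Tw
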