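import Cfsg.Agent.E6Tw.Shift
import Cfsg.Agent.E6Tw.Counts
import Cfsg.Agent.E6Tw.Levi
import Cfsg.Agent.SUDeg.Main

/-!
The multiplicities of the characters of the fixed radical.
-/

set_option autoImplicit false
set_option maxRecDepth 100000

namespace Cfsg.Agent.E6Tw

open Cfsg.Lie Cfsg.Agent.Chev Cfsg.Agent.E6Deg Matrix
open scoped commutatorElement

universe u

/-- The word moving a cell centre to the first coordinate. -/
def cW (c : Fin 8) : List (Fin 4) :=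
  ([[], [2], [2, 1], [2, 1, 2], [2, 1, 0], [2, 1, 2, 0], [2, 1, 2, 0, 1], [2, 1, 2, 0, 1, 2]] :
    List (List (Fin 4))).getD c.1 []

/-- Its permutation of the coordinates. -/
def cPi (c : Fin 8) (S : Fin 20) : Fin 20 :=
  ((List.finRange 20).find? fun m => rQ m == wimg (cW c) (rQ S)).getD 0

theorem chk_word : ∀ c, wimg (cW c) 71 = 71 ∧
    ∀ S, wimg (cW c) (rQ S) = rQ (cPi c S) ∧ (cPi c S = 0 ↔ S = cN c) := by
  decide +kernel

theorem chk_node3 : ∀ k : Fin chevE6.rank, (k : ℕ) = 3 →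
    chevE6.cartan k 71 = 0 ∧ chevE6.cartan k (rQ 0) = 1 := by
  decide +kernel

theorem chk_stab : ∀ n : Fin 20, ∀ p ∈ ([(5, 1), (4, 0), (1, 0), (5, 4)] : List (Fin 6 × Fin 6)),
    ∀ x ∈ opTgt p.1 p.2 n, x.1 ≠ 0 := by
  decide +kernel

variable {K : Type u} [Field K] [Fintype K] {φ : K →+* K} (hφ : ∀ t, (φ ^ 2) t = t)
  (hc : IsConj φ) {k : ℕ} (ρ : Representation ℂ (GT hφ) (Fin k → ℂ))

noncomputable instance : Fintype ↥(HT hφ) := Fintype.ofFinite _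

noncomputable instance : Fintype ↥(QT hφ) := Fintype.ofFinite _

noncomputable instance : DecidableEq ↥(QT hφ) := Classical.decEq _

noncomputable instance : Fintype (AddChar (Additive ↥(QT hφ)) ℂ) := Fintype.ofFinite _

/-- The multiplicity of a character. -/
noncomputable def ddT (Λ : AddChar (Additive ↥(QT hφ)) ℂ) : ℕ := pdim ρ (piT hφ) Λ

/-- The projection on its eigenspace. -/
noncomputable def PPT (Λ : AddChar (Additive ↥(QT hφ)) ℂ) : Module.End ℂ (Fin k → ℂ) :=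
  proj ρ (piT hφ) Λ

include hc in
theorem trace_sumT {q : ℕ} (hK : Fintype.card K = q ^ 2) (a : GT hφ) (g : ↥(HT hφ)) :
    (q : ℂ) * ∑ Λ, lamH (piT hφ) Λ g * LinearMap.trace ℂ _ (ρ a * PPT hφ ρ Λ) =
      ∑ v, ρ.character (a * ((g : GT hφ) * zT hφ v)) := by
  classical
  have hF : Fintype.card (F0 φ) = q := by rw [← Nat.card_eq_fintype_card, hc.card_F0 hK]
  let f : F0 φ → ↥(HT hφ) := fun v => g * ⟨zT hφ v, zT_mem hφ v⟩
  have hf : Function.Injective f := fun x y h => by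
    have h1 := congrArg (fun z : ↥(HT hφ) => inG hφ z.1) (mul_left_cancel h)
    simp only [inG_zT] at h1
    exact Subtype.ext (zz_injective h1)
  have him : Finset.univ.filter (fun h => piT hφ h = piT hφ g) = Finset.univ.image f := by
    ext h
    simp only [Finset.mem_filter, Finset.mem_univ, true_and, Finset.mem_image]
    constructor
    · intro hh
      obtain ⟨v, hv⟩ := piT_ker hφ (h := g⁻¹ * h) (by rw [map_mul, map_inv, hh, inv_mul_cancel])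
      refine ⟨v, Subtype.ext ?_⟩
      show (g : GT hφ) * zT hφ v = h
      rw [← hv, Subgroup.coe_mul, Subgroup.coe_inv, mul_inv_cancel_left]
    · rintro ⟨v, rfl⟩
      rw [map_mul, piT_zT, mul_one]
  have hker : Nat.card ↥(piT hφ).ker = q := by
    rw [← hc.card_F0 hK]
    refine (Nat.card_congr (Equiv.ofBijective (fun v : F0 φ =>
      (⟨⟨zT hφ v, zT_mem hφ v⟩, piT_zT hφ v⟩ : ↥(piT hφ).ker)) ⟨fun x y h => ?_, fun x => ?_⟩)).symm
    · have h1 := congrArg (fun z : ↥(piT hφ).ker => inG hφ z.1.1) h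
      simp only [inG_zT] at h1
      exact Subtype.ext (zz_injective h1)
    · obtain ⟨v, hv⟩ := piT_ker hφ (h := x.1) x.2
      exact ⟨v, Subtype.ext (Subtype.ext hv.symm)⟩
  have hcard : Fintype.card ↥(HT hφ) = Fintype.card ↥(QT hφ) * q := by
    have h := Subgroup.card_eq_card_quotient_mul_card_subgroup (piT hφ).ker
    rw [hker, Nat.card_congr (QuotientGroup.quotientKerEquivOfSurjective (piT hφ)
      (piT_surjective hφ)).toEquiv, Nat.card_eq_fintype_card, Nat.card_eq_fintype_card] at h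
    exact h
  have h := congrArg (fun X : Module.End ℂ (Fin k → ℂ) => LinearMap.trace ℂ _ (ρ a * X))
    (sum_proj ρ (piT hφ) g)
  simp only [mul_smul_comm, map_smul, Finset.mul_sum, map_sum, him,
    Finset.sum_image fun x _ y _ e => hf e, hcard, Nat.cast_mul, smul_eq_mul] at h
  rw [Finset.mul_sum]
  refine mul_left_cancel₀ (Nat.cast_ne_zero.2 (Fintype.card_ne_zero (α := ↥(QT hφ)))) ?_
  rw [Finset.mul_sum, Finset.mul_sum]
  convert h using 1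
  · exact Finset.sum_congr rfl fun Λ _ => by rw [PPT]; ring
  · refine Finset.sum_congr rfl fun v _ => ?_
    rw [← map_mul ρ]
    rfl

include hc in
theorem sum_ddT {q : ℕ} (hK : Fintype.card K = q ^ 2) (g : ↥(HT hφ)) :
    (q : ℂ) * ∑ Λ, (ddT hφ ρ Λ : ℂ) * lamH (piT hφ) Λ g =
      ∑ v, ρ.character ((g : GT hφ) * zT hφ v) := by
  have h := trace_sumT hφ hc ρ hK 1 g
  simp only [one_mul, map_one, PPT, trace_proj] at h
  rw [← h]
  congr 1
  exact Finset.sum_congr rfl fun Λ _ => mul_comm _ _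

include hc in
theorem sum_ddT_total {q : ℕ} (hq : q ≠ 0) (hK : Fintype.card K = q ^ 2) {s : ℕ}
    (hs : ∑ v, ρ.character (zT hφ v) = (q : ℂ) * s) : ∑ Λ, ddT hφ ρ Λ = s := by
  have h := sum_ddT hφ hc ρ hK 1
  simp only [lamH_one, mul_one, Subgroup.coe_one, one_mul] at h
  rw [hs] at h
  have := mul_left_cancel₀ (Nat.cast_ne_zero.2 hq) h
  exact_mod_cast this

theorem ddT_act {g : GT hφ} (hg : NrmT hφ g) (Λ : AddChar (Additive ↥(QT hφ)) ℂ) :
    ddT hφ ρ (actT hφ hg Λ) = ddT hφ ρ Λ :=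
  pdim_conj ρ (piT hφ) (conjTE hφ hg) (conjTE_val hφ hg) (lamH_actT hφ hg Λ)

theorem proj_actT {g : GT hφ} (hg : NrmT hφ g) (Λ : AddChar (Additive ↥(QT hφ)) ℂ) :
    ρ g * PPT hφ ρ (actT hφ hg Λ) = PPT hφ ρ Λ * ρ g :=
  proj_conj ρ (piT hφ) (conjTE hφ hg) (conjTE_val hφ hg) (lamH_actT hφ hg Λ)

theorem actT_inv {g h : GT hφ} (hg : NrmT hφ g) (hh : NrmT hφ h) (e : g * h = 1)
    (Λ : AddChar (Additive ↥(QT hφ)) ℂ) : actT hφ hh (actT hφ hg Λ) = Λ := by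
  refine DFunLike.ext _ _ fun a => ?_
  obtain ⟨x, hx⟩ := piT_surjective hφ a.toMul
  obtain rfl : a = Additive.ofMul (piT hφ x) := hx ▸ rfl
  show lamH (piT hφ) (actT hφ hh (actT hφ hg Λ)) x = lamH (piT hφ) Λ x
  rw [lamH_actT, lamH_actT]
  congr 1
  refine Subtype.ext ?_
  rw [conjTE_val, conjTE_val,
    show g * (h * (x : GT hφ) * h⁻¹) * g⁻¹ = (g * h) * x * (g * h)⁻¹ by group, e, one_mul, inv_one,
    mul_one]

theorem xT_inv {i j : Fin 6} (hij : i ≠ j) (c : K) : xT hφ hij c * xT hφ hij (-c) = 1 := by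
  refine inG_injective hφ ?_
  rw [map_mul, inG_xT, inG_xT, map_one, xP, xP, map_neg, mul_neg,
    (xl_comm i j j.rev i.rev hij (rev_ne hij) (chk_xP i j hij).1 (chk_xP i j hij).2 (-c)
      ((kap i j : K) * φ c)).symm.mul_mul_mul_comm, ← xl_add, ← xl_add, add_neg_cancel,
    add_neg_cancel]
  simp [xl, xx_zero]

theorem opT_cancel {i j : Fin 6} (hij : i ≠ j) (c : K) (Λ : AddChar (Additive ↥(QT hφ)) ℂ) :
    opT φ i j (-c) (opT φ i j c (BT hφ hc Λ)) = BT hφ hc Λ := by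
  rw [← BT_xT hφ hc hij c, ← BT_xT hφ hc hij (-c), actT_inv hφ _ _ (xT_inv hφ hij c)]

/-! ### Monomial elements -/

theorem nrm_mon {g : GT hφ} (π : Fin 20 → Fin 20) (c : Fin 20 → K)
    (h : ∀ S u, inG hφ g * xs S u * (inG hφ g)⁻¹ = xs (π S) (c S * u))
    (hz : ∀ v : K, ∃ w, inG hφ g * zz v * (inG hφ g)⁻¹ = zz w) : NrmT hφ g := by
  refine ⟨fun x hx => ?_, hz⟩
  refine ((Subgroup.closure_le _).2 ?_ :
    HQ K ≤ (HQ K).comap (MulAut.conj (inG hφ g)).toMonoidHom) hx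
  rintro _ (⟨⟨S, u⟩, rfl⟩ | ⟨v, rfl⟩)
  · show inG hφ g * xs S u * (inG hφ g)⁻¹ ∈ HQ K
    rw [h]
    exact xs_mem _ _
  · obtain ⟨w, hw⟩ := hz v
    show inG hφ g * zz v * (inG hφ g)⁻¹ ∈ HQ K
    rw [hw]
    exact zz_mem _

theorem BT_mon {g : GT hφ} (hg : NrmT hφ g) (π : Fin 20 → Fin 20) (c : Fin 20 → K)
    (h : ∀ S u, inG hφ g * xs S u * (inG hφ g)⁻¹ = xs (π S) (c S * u))
    (Λ : AddChar (Additive ↥(QT hφ)) ℂ) (S : Fin 20) :
    BT hφ hc (actT hφ hg Λ) S = c S * BT hφ hc Λ (π S) := by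
  refine BT_act hφ hc hg Λ S fun u => ?_
  rw [show (⟨_, hg.1 _ (xs_mem S u)⟩ : ↥(HQ K)) = ⟨xs (π S) (c S * u), xs_mem _ _⟩ from
    Subtype.ext (h S u), lamE_xs hφ hc]
  congr 1
  ring

/-- All seeds occur with the multiplicity of one of the first cell. -/
theorem seeds_realised {Λ : AddChar (Additive ↥(QT hφ)) ℂ} {α : K} (h0 : α ≠ 0)
    (hΛ : BT hφ hc Λ = seed 0 α) (c : Fin 8) {β : K} (hβ : φ β = β) (hβ0 : β ≠ 0) :
    ∃ Λ', BT hφ hc Λ' = seed c β ∧ ddT hφ ρ Λ' = ddT hφ ρ Λ := by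
  obtain ⟨n, hn⟩ := exists_word hφ (cW c)
  choose c₀ hc₀ hc₀' using fun S : Fin 20 => hn (rQ S) (chk_sigmaQ S).1
  obtain ⟨c₁, -, hc₁'⟩ := hn 71 (by norm_num)
  let cc : Fin 20 → K := fun S => (eQ (cPi c S) : K) * c₀ S * (eQ S : K)
  have hconj : ∀ S u, inG hφ n * xs S u * (inG hφ n)⁻¹ = xs (cPi c S) (cc S * u) := fun S u => by
    rw [xs, hc₀', ((chk_word c).2 S).1, xs]
    congr 1
    linear_combination -(c₀ S * (eQ S : K) * u) * sign_sq (F := K) (chk_sign.1 (cPi c S))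
  have hgn := nrm_mon hφ (cPi c) cc hconj fun v => ⟨c₁ * v, by
    rw [zz, hc₁', (chk_word c).1]; rfl⟩
  have hcc : cc (cN c) ≠ 0 :=
    mul_ne_zero (mul_ne_zero (sg_ne (chk_sign.1 _)) (hc₀ _)) (sg_ne (chk_sign.1 _))
  have hval : ∀ (Λ : AddChar (Additive ↥(QT hφ)) ℂ) (γ : K), BT hφ hc Λ = seed 0 γ →
      BT hφ hc (actT hφ hgn Λ) = seed c (cc (cN c) * γ) := by
    intro Λ γ h
    funext S
    rw [BT_mon hφ hc hgn (cPi c) cc hconj, h]
    by_cases hS : S = cN c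
    · rw [((chk_word c).2 S).2.2 hS, hS, seed, seed, show cN 0 = 0 from rfl, Pi.single_eq_same,
        Pi.single_eq_same]
    · rw [seed, seed, Pi.single_eq_of_ne hS,
        Pi.single_eq_of_ne (show cPi c S ≠ cN 0 from fun e => hS (((chk_word c).2 S).2.1 e)), mul_zero]
  have hreal : φ (cc (cN c) * α) = cc (cN c) * α := by
    have h := real_zero (BT_real hφ hc (actT hφ hgn Λ)) c
    rwa [hval Λ α hΛ, seed, Pi.single_eq_same] at h
  have h3 : 3 < chevE6.rank := by decide +kernel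
  set r := β / (cc (cN c) * α) with hr
  obtain ⟨g, hg⟩ := exists_torus_node hφ (k := ⟨3, h3⟩) (Or.inr rfl) (t := r)
    (div_ne_zero hβ0 (mul_ne_zero hcc h0)) (by rw [hr, map_div₀, hβ, hreal])
  let tc : Fin 20 → K := fun S => r ^ chevE6.cartan (⟨3, h3⟩ : Fin chevE6.rank) (rQ S)
  have hconj' : ∀ S u, inG hφ g * xs S u * (inG hφ g)⁻¹ = xs S (tc S * u) := fun S u => by
    rw [xs, hg _ (chk_sigmaQ S).1, xs]
    congr 1
    ring
  have hgg := nrm_mon hφ id tc hconj' fun v => ⟨_, hg 71 (by norm_num) v⟩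
  refine ⟨actT hφ hgn (actT hφ hgg Λ), ?_, (ddT_act hφ ρ _ _).trans (ddT_act hφ ρ _ _)⟩
  rw [hval _ (r * α) (funext fun S => ?_)]
  · congr 1
    rw [hr]
    field_simp
  · rw [BT_mon hφ hc hgg id tc hconj', hΛ]
    by_cases hS : S = cN 0
    · subst hS
      show r ^ chevE6.cartan (⟨3, h3⟩ : Fin chevE6.rank) (rQ 0) * seed 0 α (cN 0) = _
      rw [(chk_node3 _ rfl).2, zpow_one, seed, seed, Pi.single_eq_same, Pi.single_eq_same]
    · simp [seed, Pi.single_eq_of_ne hS]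

include hc in
theorem class_dichotomy {q : ℕ} (hK : Fintype.card K = q ^ 2)
    {Λ₁ : AddChar (Additive ↥(QT hφ)) ℂ} (h0 : Λ₁ ≠ 0) (hd : 0 < ddT hφ ρ Λ₁) :
    (∀ B, Orb φ B → ∃ Λ, BT hφ hc Λ = B ∧ ddT hφ ρ Λ = ddT hφ ρ Λ₁) ∨
      q ^ 11 ≤ ∑ Λ, ddT hφ ρ Λ := by
  classical
  set T : Finset (AddChar (Additive ↥(QT hφ)) ℂ) :=
    Finset.univ.filter fun Λ => ddT hφ ρ Λ = ddT hφ ρ Λ₁ with hT
  set S : Set (Fin 20 → K) := BT hφ hc '' (T : Set (AddChar (Additive ↥(QT hφ)) ℂ)) with hS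
  have hmemT : ∀ Λ, Λ ∈ (T : Set (AddChar (Additive ↥(QT hφ)) ℂ)) ↔ ddT hφ ρ Λ = ddT hφ ρ Λ₁ :=
    fun Λ => by simp [hT]
  have hSc : ClosedT φ S := by
    rintro i j hij c _ ⟨Λ, hΛ, rfl⟩
    exact ⟨actT hφ (nrm_xT hφ hij c) Λ, (hmemT _).2 ((ddT_act hφ ρ _ _).trans ((hmemT _).1 hΛ)),
      BT_xT hφ hc hij c Λ⟩
  have hR : ∀ B ∈ S, RealB φ B := by
    rintro _ ⟨Λ, -, rfl⟩
    exact BT_real hφ hc Λ
  rcases dichotomyT hc hK hSc hR ⟨Λ₁, (hmemT _).2 rfl, rfl⟩ (fun h => h0 (BT_eq_zero hφ hc h)) with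
    ⟨α, hα, hα0, Λ, hΛ, hΛB⟩ | h
  · refine Or.inl fun B hB => ?_
    obtain ⟨Λ', hΛ', hB'⟩ := hB S hSc fun c β hβ hβ0 => by
      obtain ⟨Λ', h1, h2⟩ := seeds_realised hφ hc ρ hα0 hΛB c hβ hβ0
      exact ⟨Λ', (hmemT _).2 (h2.trans ((hmemT _).1 hΛ)), h1⟩
    exact ⟨Λ', hB', (hmemT _).1 hΛ'⟩
  · refine Or.inr (h.trans ?_)
    have h1 : Nat.card S ≤ T.card := by
      rw [hS, ← Finset.coe_image, Nat.card_coe_set_eq, Set.ncard_coe_finset]
      exact Finset.card_image_le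
    refine h1.trans ?_
    rw [Finset.card_eq_sum_ones]
    refine (Finset.sum_le_sum fun Λ hΛ => ?_).trans
      (Finset.sum_le_univ_sum_of_nonneg (fun _ => Nat.zero_le _))
    simp only [hT, Finset.mem_filter] at hΛ
    show 1 ≤ ddT hφ ρ Λ
    omega

include hc in
/-- A character outside the orbit has a large class. -/
theorem orbit_largeT {q : ℕ} (hK : Fintype.card K = q ^ 2)
    {Λ₁ : AddChar (Additive ↥(QT hφ)) ℂ} (h0 : Λ₁ ≠ 0) (hd : 0 < ddT hφ ρ Λ₁)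
    (hG : ¬ Orb φ (BT hφ hc Λ₁)) : q ^ 11 ≤ ∑ Λ, ddT hφ ρ Λ := by
  classical
  set T : Finset (AddChar (Additive ↥(QT hφ)) ℂ) :=
    Finset.univ.filter fun Λ => 0 < ddT hφ ρ Λ ∧ ¬ Orb φ (BT hφ hc Λ) with hT
  set S : Set (Fin 20 → K) := BT hφ hc '' (T : Set (AddChar (Additive ↥(QT hφ)) ℂ)) with hS
  have hmemT : ∀ Λ, Λ ∈ (T : Set (AddChar (Additive ↥(QT hφ)) ℂ)) ↔
      0 < ddT hφ ρ Λ ∧ ¬ Orb φ (BT hφ hc Λ) := fun Λ => by simp [hT]
  have hSc : ClosedT φ S := by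
    rintro i j hij c _ ⟨Λ, hΛ, rfl⟩
    refine ⟨actT hφ (nrm_xT hφ hij c) Λ, (hmemT _).2 ?_, BT_xT hφ hc hij c Λ⟩
    rw [ddT_act, BT_xT hφ hc hij]
    refine ⟨((hmemT _).1 hΛ).1, fun h => ((hmemT _).1 hΛ).2 ?_⟩
    rw [← opT_cancel hφ hc hij c Λ]
    exact orb_closed i j hij (-c) _ h
  have hR : ∀ B ∈ S, RealB φ B := by
    rintro _ ⟨Λ, -, rfl⟩
    exact BT_real hφ hc Λ
  rcases dichotomyT hc hK hSc hR ⟨Λ₁, (hmemT _).2 ⟨hd, hG⟩, rfl⟩
    (fun h => h0 (BT_eq_zero hφ hc h)) with ⟨α, hα, hα0, Λ, hΛ, hΛB⟩ | h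
  · exact absurd (hΛB ▸ orb_seed 0 hα hα0) ((hmemT _).1 hΛ).2
  · refine h.trans ?_
    have h1 : Nat.card S ≤ T.card := by
      rw [hS, ← Finset.coe_image, Nat.card_coe_set_eq, Set.ncard_coe_finset]
      exact Finset.card_image_le
    refine h1.trans ?_
    rw [Finset.card_eq_sum_ones]
    refine (Finset.sum_le_sum fun Λ hΛ => ?_).trans
      (Finset.sum_le_univ_sum_of_nonneg (fun _ => Nat.zero_le _))
    simp only [hT, Finset.mem_filter] at hΛ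
    show 1 ≤ ddT hφ ρ Λ
    omega

/-- The orbit as a finite set. -/
noncomputable def orbF (φ : K →+* K) : Finset (Fin 20 → K) :=
  (Set.toFinite {B : Fin 20 → K | Orb φ B}).toFinset

theorem mem_orbF {B : Fin 20 → K} : B ∈ orbF φ ↔ Orb φ B := Set.Finite.mem_toFinset _

theorem card_orbF (P : (Fin 20 → K) → Prop) [DecidablePred P] :
    ((orbF φ).filter P).card = Nat.card {B : Fin 20 → K // Orb φ B ∧ P B} := by
  classical
  rw [Nat.card_eq_fintype_card, Fintype.card_subtype]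
  congr 1
  ext B
  simp [mem_orbF]

theorem zero_not_orb : ¬ Orb φ (0 : Fin 20 → K) := by
  classical
  exact fun h => zero_not_mem_Gr (orb_subset h)

/-- Sums over the characters as sums over the orbit. -/
theorem sum_charT (hcl : ∀ Λ, Λ ≠ 0 → 0 < ddT hφ ρ Λ → Orb φ (BT hφ hc Λ) ∧ ddT hφ ρ Λ = 1)
    (hex : ∀ B, Orb φ B → ∃ Λ, BT hφ hc Λ = B ∧ ddT hφ ρ Λ = 1)
    (f : (Fin 20 → K) → ℂ) (g : AddChar (Additive ↥(QT hφ)) ℂ → ℂ)
    (hg0 : g 0 = (ddT hφ ρ 0 : ℂ) * f 0)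
    (hg1 : ∀ Λ, Orb φ (BT hφ hc Λ) → ddT hφ ρ Λ = 1 → g Λ = f (BT hφ hc Λ))
    (hg2 : ∀ Λ, ddT hφ ρ Λ = 0 → g Λ = 0) :
    ∑ Λ, g Λ = (ddT hφ ρ 0 : ℂ) * f 0 + ∑ B ∈ orbF φ, f B := by
  classical
  rw [← Finset.add_sum_erase _ _ (Finset.mem_univ (0 : AddChar (Additive ↥(QT hφ)) ℂ)), hg0]
  congr 1
  refine (Finset.sum_subset
    (s₁ := Finset.univ.filter fun Λ => Orb φ (BT hφ hc Λ) ∧ ddT hφ ρ Λ = 1) ?_ ?_).symm.trans ?_
  · intro Λ hΛ
    simp only [Finset.mem_filter] at hΛ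
    refine Finset.mem_erase.2 ⟨fun h => zero_not_orb (φ := φ) ?_, Finset.mem_univ _⟩
    rw [← BT_zero hφ hc, ← h]
    exact hΛ.2.1
  · intro Λ hΛ hnot
    simp only [Finset.mem_filter, Finset.mem_univ, true_and] at hnot
    exact hg2 Λ (Nat.eq_zero_of_not_pos fun hp => hnot (hcl Λ (Finset.ne_of_mem_erase hΛ) hp))
  · refine Finset.sum_bij (fun Λ _ => BT hφ hc Λ) (fun Λ hΛ => ?_)
      (fun a _ b _ h => BT_injective hφ hc h) (fun B hB => ?_) (fun Λ hΛ => ?_)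
    · simp only [Finset.mem_filter] at hΛ
      exact mem_orbF.2 hΛ.2.1
    · obtain ⟨Λ, h1, h2⟩ := hex B (mem_orbF.1 hB)
      exact ⟨Λ, by simp [h1, h2, mem_orbF.1 hB], h1⟩
    · simp only [Finset.mem_filter] at hΛ
      exact hg1 Λ hΛ.2.1 hΛ.2.2

/-! ### The test element -/

include hc in
/-- The test element fixes the fixed space of the radical, or that space is large. -/
theorem levi_case {q : ℕ} (hK : Fintype.card K = q ^ 2) {θ : K} :
    (∀ t : K, ρ (aT hφ θ t) * PPT hφ ρ 0 = PPT hφ ρ 0) ∨ SUDeg.bnd q 6 ≤ ddT hφ ρ 0 := by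
  classical
  obtain ⟨δ, hδ, hδ'⟩ := hc.exists_skew
  have h := hB_isHerm hc hδ hδ'
  set Ψ := Psi hφ hc hδ hδ' with hΨ
  have hcomm : ∀ g, ρ (Ψ g) * PPT hφ ρ 0 = PPT hφ ρ 0 * ρ (Ψ g) := fun g => by
    have := proj_actT hφ ρ (nrm_Psi hφ hc hδ hδ' g) 0
    rwa [actT_zero] at this
  set R := LinearMap.range (PPT hφ ρ 0) with hR
  have hinv : ∀ g, ∀ v ∈ R, ρ (Ψ g) v ∈ R := by
    rintro g _ ⟨x, rfl⟩
    exact ⟨ρ (Ψ g) x, (LinearMap.congr_fun (hcomm g) x).symm⟩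
  let π : Representation ℂ (Classical.Herm.suG (hB φ δ)) R :=
    { toFun := fun g => (ρ (Ψ g)).restrict (hinv g)
      map_one' := by ext w; simp
      map_mul' := fun g g' => by ext w; simp }
  by_cases hnt : ∃ (e : Fin 6 → K) (he : hB φ δ e e = 0) (s : SUDeg.Skew φ),
      π (SUDeg.Zel h he s) ≠ 1
  · obtain ⟨e, he, s, hs⟩ := hnt
    have := SUDeg.bnd_le_of_nontrivial h (by rw [Module.finrank_fin_fun]; norm_num) π he hs
    rw [show Nat.card (Classical.Herm.fixField φ) = q from hc.card_F0 hK,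
      Module.finrank_fin_fun] at this
    exact Or.inr this
  · push Not at hnt
    refine Or.inl fun t => ?_
    have htriv := SUDeg.trivial_of_root_trivial h (by rw [Module.finrank_fin_fun]; norm_num)
      (Or.inr (by rw [Module.finrank_fin_fun]; norm_num)) π hnt
      (xU δ hc (show (5 : Fin 6) ≠ 0 by decide) (θ * t))
    have e : Ψ (xU δ hc (show (5 : Fin 6) ≠ 0 by decide) (θ * t)) = aT hφ θ t := by
      refine inG_injective hφ ?_
      show Phi K (toSL δ (xU δ hc _ _)) = xP φ 5 0 (θ * t)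
      rw [toSL_xU, xM, map_mul, Phi_transvection, Phi_transvection, xP]
    refine LinearMap.ext fun x => ?_
    have h' := LinearMap.congr_fun htriv ⟨PPT hφ ρ 0 x, LinearMap.mem_range_self _ x⟩
    have h'' := congrArg Subtype.val h'
    rw [← e]
    exact h''

omit [Fintype K] in
theorem opT_seed {i j : Fin 6}
    (h : (i, j) ∈ ([(5, 1), (4, 0), (1, 0), (5, 4)] : List (Fin 6 × Fin 6)))
    (h' : (j.rev, i.rev) ∈ ([(5, 1), (4, 0), (1, 0), (5, 4)] : List (Fin 6 × Fin 6))) (c α : K) :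
    opT φ i j c (seed 0 α) = seed 0 α := by
  have key : ∀ {a b : Fin 6},
      (a, b) ∈ ([(5, 1), (4, 0), (1, 0), (5, 4)] : List (Fin 6 × Fin 6)) →
      ∀ c : K, op a b c (seed 0 α) = seed 0 α := by
    intro a b hab c
    funext n
    simp only [op]
    cases hx : opTgt a b n with
    | none => simp [ev_none]
    | some x =>
      have := chk_stab n (a, b) hab x (by rw [show opTgt a b n = some x from hx]; rfl)
      obtain ⟨x, s⟩ := x
      simp [ev_some, seed, Pi.single_eq_of_ne (show x ≠ cN 0 from this)]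
  rw [opT, key h, key h']

include hc in
/-- The test element is trivial on the eigenspace of each fixed point of the orbit. -/
theorem good_fix {θ : K} (hθ : θ + φ θ = 1) (t : F0 φ) {Λ : AddChar (Additive ↥(QT hφ)) ℂ}
    (hO : Orb φ (BT hφ hc Λ)) (hd : ddT hφ ρ Λ = 1) (hF : FixT (BT hφ hc Λ)) :
    ρ (aT hφ θ t) * PPT hφ ρ Λ = PPT hφ ρ Λ := by
  classical
  by_contra hne
  set S : Set (Fin 20 → K) := BT hφ hc '' {Λ | Orb φ (BT hφ hc Λ) ∧ ddT hφ ρ Λ = 1 ∧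
    ZSupp (BT hφ hc Λ) ∧ ρ (aT hφ θ t) * PPT hφ ρ Λ ≠ PPT hφ ρ Λ} with hS
  have hSc : ∀ i j, i ≠ j → Inner i j → ∀ c, ∀ B ∈ S, opT φ i j c B ∈ S := by
    rintro i j hij hI c _ ⟨Λ, ⟨h1, h2, h3, h4⟩, rfl⟩
    refine ⟨actT hφ (nrm_xT hφ hij c) Λ, ⟨?_, (ddT_act hφ ρ _ _).trans h2, ?_, fun h5 => h4 ?_⟩,
      BT_xT hφ hc hij c Λ⟩
    · rw [BT_xT hφ hc hij]; exact orb_closed i j hij c _ h1
    · rw [BT_xT hφ hc hij]; exact opT_zsupp hij hI c h3
    · have hcm : aT hφ θ t * xT hφ hij c = xT hφ hij c * aT hφ θ t := by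
        refine inG_injective hφ ?_
        rw [map_mul, map_mul, inG_aT hφ hθ, inG_xT, xP]
        obtain ⟨i0, i5, j0, j5⟩ := hI
        obtain ⟨i0', i5', j0', j5'⟩ := chk_z.2.2.2.2.1 i j ⟨i0, i5, j0, j5⟩
        exact ((xl_comm 5 0 i j (by decide) hij i0.symm j5.symm _ c).mul_right
          (xl_comm 5 0 j.rev i.rev (by decide) (rev_ne hij) i0'.symm j5'.symm _ _)).eq
      set g := xT hφ hij c
      have e1 := proj_actT hφ ρ (nrm_xT hφ hij c) Λ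
      have hPP : PPT hφ ρ Λ = ρ g * PPT hφ ρ (actT hφ (nrm_xT hφ hij c) Λ) * ρ g⁻¹ := by
        rw [e1, mul_assoc, ← map_mul, mul_inv_cancel, map_one, mul_one]
      rw [hPP, ← mul_assoc, ← mul_assoc, ← map_mul, hcm, map_mul, mul_assoc (ρ g), h5]
  obtain ⟨α, -, hα0, Λ₀, ⟨-, h2, -, h4⟩, hΛ₀⟩ := fix_dichotomy hc hSc
    (by rintro _ ⟨Λ, -, rfl⟩; exact BT_real hφ hc Λ)
    (by rintro _ ⟨Λ, hΛ, rfl⟩; exact orb_subset hΛ.1)
    (by rintro _ ⟨Λ, hΛ, rfl⟩; exact hΛ.2.2.1)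
    (B := BT hφ hc Λ) ⟨Λ, ⟨hO, hd, zsupp_of_fix (orb_subset hO) (BT_real hφ hc Λ) hF, hne⟩, rfl⟩
    (fun h => zero_not_orb (φ := φ) (h ▸ hO))
  refine h4 ?_
  have hstab : ∀ {i j : Fin 6} (hij : i ≠ j) (c : K),
      (i, j) ∈ ([(5, 1), (4, 0), (1, 0), (5, 4)] : List (Fin 6 × Fin 6)) →
      (j.rev, i.rev) ∈ ([(5, 1), (4, 0), (1, 0), (5, 4)] : List (Fin 6 × Fin 6)) →
      ρ (xT hφ hij c) * PPT hφ ρ Λ₀ = PPT hφ ρ Λ₀ * ρ (xT hφ hij c) := by
    intro i j hij c hm hm'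
    have e : actT hφ (nrm_xT hφ hij c) Λ₀ = Λ₀ := BT_injective hφ hc (by
      rw [BT_xT hφ hc hij, hΛ₀, opT_seed hm hm'])
    have := proj_actT hφ ρ (nrm_xT hφ hij c) Λ₀
    rwa [e] at this
  have hcomm : aT hφ θ t = xT hφ (show (5 : Fin 6) ≠ 1 by decide) (θ * (t : K)) *
      xT hφ (show (1 : Fin 6) ≠ 0 by decide) 1 *
      (xT hφ (show (5 : Fin 6) ≠ 1 by decide) (θ * (t : K)))⁻¹ *
      (xT hφ (show (1 : Fin 6) ≠ 0 by decide) 1)⁻¹ := by
    refine inG_injective hφ ?_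
    rw [inG_aT hφ hθ, map_mul, map_mul, map_mul, map_inv, map_inv, inG_xT, inG_xT, xP, xP, map_one,
      show kap (5 : Fin 6) 1 = 1 from rfl, show kap (1 : Fin 6) 0 = -1 from rfl,
      show (Fin.rev (1 : Fin 6)) = 4 from rfl, show (Fin.rev (5 : Fin 6)) = 0 from rfl,
      show (Fin.rev (0 : Fin 6)) = 5 from rfl, Int.cast_one, one_mul, Int.cast_neg, Int.cast_one,
      mul_one]
    set x := θ * (t : K)
    set y := φ x
    have hz : (t : K) = x + y := by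
      show (t : K) = θ * t + φ (θ * t)
      rw [map_mul, F0_fix, ← add_mul, hθ, one_mul]
    set z1 := xl 5 0 x
    set z2 := xl 5 0 y
    have m2 : xl 4 0 y * xl 5 4 (-1 : K) * (xl 4 0 y)⁻¹ = z2 * xl 5 4 (-1 : K) := by
      have r := xl_rel 5 4 0 (by decide) (by decide) (by decide) (-1 : K) y
      have r' := congrArg (·⁻¹) r
      simp only [commutatorElement_inv] at r'
      rw [commutatorElement_def, mul_inv_eq_iff_eq_mul] at r'
      rw [r']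
      congr 1
      refine inv_eq_of_mul_eq_one_left ?_
      show xl 5 0 y * xl 5 0 (-1 * y) = 1
      rw [← xl_add, show y + -1 * y = 0 by ring, xl, mul_zero, xx_zero]
    have m1 : xl 5 1 x * xl 1 0 (1 : K) * (xl 5 1 x)⁻¹ = z1 * xl 1 0 (1 : K) := by
      have r := xl_rel 5 1 0 (by decide) (by decide) (by decide) x (1 : K)
      rwa [commutatorElement_def, mul_inv_eq_iff_eq_mul, mul_one] at r
    have c1 : Commute (xl 4 0 y) (xl 1 0 (1 : K)) :=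
      xl_comm 4 0 1 0 (by decide) (by decide) (by decide) (by decide) _ _
    have c2 : Commute (xl 5 1 x) (xl 5 4 (-1 : K)) :=
      xl_comm 5 1 5 4 (by decide) (by decide) (by decide) (by decide) _ _
    have c3 : Commute (xl 5 1 x) z2 :=
      xl_comm 5 1 5 0 (by decide) (by decide) (by decide) (by decide) _ _
    have c4 : Commute z2 (xl 1 0 (1 : K)) :=
      xl_comm 5 0 1 0 (by decide) (by decide) (by decide) (by decide) _ _
    rw [hz, xl_add, mul_inv_rev (xl 5 1 x) (xl 4 0 y)]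
    rw [show xl 5 1 x * xl 4 0 y * (xl 1 0 (1 : K) * xl 5 4 (-1 : K)) *
        ((xl 4 0 y)⁻¹ * (xl 5 1 x)⁻¹) * (xl 1 0 (1 : K) * xl 5 4 (-1 : K))⁻¹ =
      xl 5 1 x * ((xl 4 0 y * xl 1 0 (1 : K) * (xl 4 0 y)⁻¹) *
        (xl 4 0 y * xl 5 4 (-1 : K) * (xl 4 0 y)⁻¹)) * (xl 5 1 x)⁻¹ *
          (xl 1 0 (1 : K) * xl 5 4 (-1 : K))⁻¹ by group,
      c1.eq, mul_inv_cancel_right, m2,
      show xl 5 1 x * (xl 1 0 (1 : K) * (z2 * xl 5 4 (-1 : K))) * (xl 5 1 x)⁻¹ =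
        (xl 5 1 x * xl 1 0 (1 : K) * (xl 5 1 x)⁻¹) * (xl 5 1 x * z2 * (xl 5 1 x)⁻¹) *
          (xl 5 1 x * xl 5 4 (-1 : K) * (xl 5 1 x)⁻¹) by group,
      m1, c3.eq, mul_inv_cancel_right, c2.eq, mul_inv_cancel_right, mul_assoc z1, ← c4.eq]
    group
    rfl
  rw [hcomm, PPT]
  exact commutator_fix ρ (piT hφ) h2
    (hstab _ _ (by decide) (by decide)) (hstab _ _ (by decide) (by decide))

include hc in
/-- The test element on each eigenspace. -/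
theorem trace_testT {θ : K} (hθ : θ + φ θ = 1)
    (h0 : ∀ t : K, ρ (aT hφ θ t) * PPT hφ ρ 0 = PPT hφ ρ 0) {t : F0 φ} (ht : t ≠ 0) :
    (LinearMap.trace ℂ _ (ρ (aT hφ θ t) * PPT hφ ρ 0) = (ddT hφ ρ 0 : ℂ)) ∧
    (∀ Λ, ddT hφ ρ Λ = 0 → LinearMap.trace ℂ _ (ρ (aT hφ θ t) * PPT hφ ρ Λ) = 0) ∧
    (∀ Λ, Orb φ (BT hφ hc Λ) → ddT hφ ρ Λ = 1 →
      (FixT (BT hφ hc Λ) → LinearMap.trace ℂ _ (ρ (aT hφ θ t) * PPT hφ ρ Λ) = 1) ∧
      (¬ FixT (BT hφ hc Λ) → LinearMap.trace ℂ _ (ρ (aT hφ θ t) * PPT hφ ρ Λ) = 0)) := by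
  refine ⟨?_, fun Λ h => ?_, fun Λ hG h1 => ⟨fun hfix => ?_, fun hfix => ?_⟩⟩
  · rw [h0]; exact trace_proj ρ (piT hφ) 0
  · rw [PPT, proj_eq_zero ρ (piT hφ) h, mul_zero, map_zero]
  · rw [good_fix hφ hc ρ hθ t hG h1 hfix, PPT, trace_proj]
    rw [show pdim ρ (piT hφ) Λ = 1 from h1, Nat.cast_one]
  · refine trace_eq_zero_of_moved ρ (piT hφ) (piT_surjective hφ)
      (conjTE hφ (nrm_xT hφ (show (5 : Fin 6) ≠ 0 by decide) (θ * (t : K))))
      (conjTE_val hφ _) (lamH_actT hφ _ Λ) fun e => hfix fun n => ?_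
    have h := congrFun (congrArg (BT hφ hc) e) n
    rw [BT_xT hφ hc, opT, show (Fin.rev (0 : Fin 6)) = 5 from rfl,
      show (Fin.rev (5 : Fin 6)) = 0 from rfl, op_op _ _ (by decide),
      show kap (5 : Fin 6) 0 = 1 from rfl, Int.cast_one, one_mul, map_mul, F0_fix, ← add_mul, hθ,
      one_mul, op] at h
    exact (mul_eq_zero.1 (add_eq_left.1 h)).resolve_left fun h => ht (Subtype.ext h)

end Cfsg.Agent.E6Tw
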