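import Cfsg.Agent.E6Tw.Radical
import Cfsg.Agent.Chev.Twist.E6Main
import Cfsg.Agent.D4Deg.Fourier
import Cfsg.Agent.Char.Integral

/-!
The character on the root groups of the fixed radical.
-/

set_option autoImplicit false
set_option maxRecDepth 100000

namespace Cfsg.Agent.E6Tw

open Cfsg.Lie Cfsg.Agent.Chev Cfsg.Agent.E6Deg

universe u

/-- The coordinates of the abelian subgroup. -/
def sB (i : Fin 10) : Fin 20 := ([0, 1, 2, 3, 4, 5, 6, 10, 11, 12] : List (Fin 20)).getD i.1 0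

/-- The symmetry on them. -/
def rB (i : Fin 10) : Fin 10 := ([0, 1, 4, 7, 2, 5, 8, 3, 6, 9] : List (Fin 10)).getD i.1 0

theorem chk_B : (∀ i j : Fin 10, sB j ≠ (sB i).rev) ∧ (∀ i j : Fin 10, i ≠ j → (sB i).rev ≠ (sB j).rev) ∧
    ∀ i : Fin 10, sS (sB i) = sB (rB i) ∧ rB (rB i) = i ∧ lam (sB (rB i)) = lam (sB i) ∧
      lam (sB i) * lam (sB (rB i)) = 1 := by
  decide +kernel

theorem chk_centre_zero : sS 0 = 0 ∧ sS 7 = 7 ∧ lam 0 = 1 ∧ lam 7 = 1 := by decide +kernel

theorem chk_weyl : wimg [2, 1, 2, 3, 0, 1, 2, 1, 0] (rL 5 0) = rQ 0 ∧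
    wimg [2, 1, 2, 3, 0, 1, 2, 1, 0] 71 = rQ 7 := by
  decide +kernel

theorem chk_node : ∀ k : Fin chevE6.rank, (k : ℕ) = 1 → chevE6.cartan k 71 = 1 := by decide +kernel

variable {K : Type u} [Field K] {φ : K →+* K} (hφ : ∀ t, (φ ^ 2) t = t)

/-- An element of the abelian subgroup. -/
noncomputable def prodB : List (Fin 10) → (Fin 10 → K) → Gp K
  | [], _ => 1
  | i :: l, a => xs (sB i) (a i) * prodB l a

theorem prodB_commute (i : Fin 10) (u : K) (a : Fin 10 → K) :
    ∀ l : List (Fin 10), Commute (xs (sB i) u) (prodB l a)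
  | [] => Commute.one_right _
  | j :: l => (xs_commute (chk_B.1 j i) (a j) u).mul_right (prodB_commute i u a l)

theorem prodB_mem (a : Fin 10 → K) : ∀ l : List (Fin 10), prodB l a ∈ HQ K
  | [] => one_mem _
  | j :: l => mul_mem (xs_mem _ _) (prodB_mem a l)

theorem prodB_add (a b : Fin 10 → K) :
    ∀ l : List (Fin 10), prodB l (a + b) = prodB l a * prodB l b
  | [] => (one_mul 1).symm
  | i :: l => by
    show xs (sB i) ((a + b) i) * prodB l (a + b) =
      xs (sB i) (a i) * prodB l a * (xs (sB i) (b i) * prodB l b)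
    rw [Pi.add_apply, xs_add, prodB_add a b l, (prodB_commute i (b i) a l).mul_mul_mul_comm]

theorem xs_zero (S : Fin 20) : xs S (0 : K) = 1 := by rw [xs, mul_zero, xx_zero]

theorem prodB_single (i : Fin 10) (u : K) : ∀ l : List (Fin 10), l.Nodup →
    prodB l (Pi.single i u : Fin 10 → K) = if i ∈ l then xs (sB i) u else 1
  | [], _ => by simp [prodB]
  | j :: l, h => by
    rw [List.nodup_cons] at h
    show xs (sB j) (Pi.single (M := fun _ => K) i u j) * prodB l (Pi.single (M := fun _ => K) i u) = _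
    rw [prodB_single i u l h.2]
    by_cases hij : i = j
    · subst hij
      rw [Pi.single_eq_same, if_neg h.1, if_pos List.mem_cons_self, mul_one]
    · rw [Pi.single_eq_of_ne (Ne.symm hij), xs_zero, one_mul]
      simp only [List.mem_cons, hij, false_or]

theorem prodB_conj (i : Fin 10) (v : K) (a : Fin 10 → K) : ∀ l : List (Fin 10), l.Nodup →
    xs (sB i).rev v * prodB l a * (xs (sB i).rev v)⁻¹ =
      prodB l a * zz (if i ∈ l then (cQ (sB i) : K) * a i * v else 0)
  | [], _ => by simp [prodB, zz_zero]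
  | j :: l, h => by
    rw [List.nodup_cons] at h
    show xs (sB i).rev v * (xs (sB j) (a j) * prodB l a) * (xs (sB i).rev v)⁻¹ = _
    rw [show xs (sB i).rev v * (xs (sB j) (a j) * prodB l a) * (xs (sB i).rev v)⁻¹ =
      xs (sB i).rev v * xs (sB j) (a j) * (xs (sB i).rev v)⁻¹ *
        (xs (sB i).rev v * prodB l a * (xs (sB i).rev v)⁻¹) by group, prodB_conj i v a l h.2]
    by_cases hij : i = j
    · subst hij
      rw [if_neg h.1, if_pos List.mem_cons_self, zz_zero, mul_one, xs_pair, mul_assoc,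
        (zz_commute_mem (prodB_mem a l) _).eq, ← mul_assoc]
      rfl
    · rw [(xs_commute (S := sB j) (chk_B.2.1 i j hij) (a j) v).eq, mul_inv_cancel_right, ← mul_assoc]
      simp only [List.mem_cons, hij, false_or]
      rfl

/-- The real parameters of the abelian subgroup. -/
noncomputable def RB (φ : K →+* K) : AddSubgroup (Fin 10 → K) :=
  RV φ rB fun i => (lam (sB i) : K)

theorem rb_inv : InvData φ rB fun i => (lam (sB i) : K) := fun i => by
  obtain ⟨-, h2, -, h4⟩ := chk_B.2.2 i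
  refine ⟨h2, ?_⟩
  rw [map_intCast, ← Int.cast_mul, h4, Int.cast_one]

variable (hc : IsConj φ)

/-- The parameters of elements of the twisted group. -/
noncomputable def inB : AddSubgroup (Fin 10 → K) where
  carrier := {a | (prodB (List.finRange 10) a : GL chevE6.Idx K) ∈ (twistE6 K φ hφ).G1}
  zero_mem' := by
    have h := prodB_add (0 : Fin 10 → K) 0 (List.finRange 10)
    rw [add_zero, left_eq_mul] at h
    show (prodB (List.finRange 10) (0 : Fin 10 → K) : GL chevE6.Idx K) ∈ (twistE6 K φ hφ).G1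
    rw [h]
    exact one_mem _
  add_mem' := fun {a b} ha hb => by
    show (prodB (List.finRange 10) (a + b) : GL chevE6.Idx K) ∈ (twistE6 K φ hφ).G1
    rw [prodB_add, Subgroup.coe_mul]
    exact mul_mem ha hb
  neg_mem' := fun {a} ha => by
    have h := prodB_add a (-a) (List.finRange 10)
    have h0 := prodB_add (0 : Fin 10 → K) 0 (List.finRange 10)
    rw [add_zero, left_eq_mul] at h0
    rw [add_neg_cancel, h0] at h
    show (prodB (List.finRange 10) (-a) : GL chevE6.Idx K) ∈ (twistE6 K φ hφ).G1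
    rw [eq_inv_of_mul_eq_one_right h.symm, Subgroup.coe_inv]
    exact inv_mem ha

include hc in
theorem rb_le : RB φ ≤ inB hφ := by
  intro a ha
  obtain ⟨θ, hθ⟩ := hc.exists_theta
  have e : a = ∑ i, (Pi.single i (θ * a i) +
      Pi.single (rB i) ((lam (sB i) : K) * φ (θ * a i))) := by
    funext m
    simp only [Finset.sum_apply, Pi.add_apply, Finset.sum_add_distrib]
    rw [Finset.sum_eq_single m, Finset.sum_eq_single (rB m)]
    · rw [Pi.single_eq_same, (chk_B.2.2 m).2.1, Pi.single_eq_same, (chk_B.2.2 m).2.2.1, map_mul]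
      linear_combination -(a m) * hθ + φ θ * mem_RV.1 ha m
    · intro i _ hi
      exact Pi.single_eq_of_ne (fun e => hi (by rw [e, (chk_B.2.2 i).2.1])) _
    · simp
    · intro i _ hi
      exact Pi.single_eq_of_ne (Ne.symm hi) _
    · simp
  rw [e]
  refine AddSubgroup.sum_mem _ fun i _ => ?_
  show (Subtype.val (prodB (List.finRange 10) (_ : Fin 10 → K)) : GL chevE6.Idx K) ∈ (twistE6 K φ hφ).G1
  rw [prodB_add, prodB_single _ _ _ (List.nodup_finRange 10),
    prodB_single _ _ _ (List.nodup_finRange 10), if_pos (List.mem_finRange _),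
    if_pos (List.mem_finRange _), ← (chk_B.2.2 i).1]
  exact (yT hφ (sB i) (θ * a i)).2

/-- An element of the fixed abelian subgroup. -/
noncomputable def elB (a : RB φ) : GT hφ := ⟨_, rb_le hφ hc a.2⟩

theorem inG_elB (a : RB φ) : inG hφ (elB hφ hc a) = prodB (List.finRange 10) a.1 := rfl

theorem elB_add (a b : RB φ) : elB hφ hc (a + b) = elB hφ hc a * elB hφ hc b :=
  inG_injective hφ (by
    rw [map_mul, inG_elB, inG_elB, inG_elB, AddSubgroup.coe_add, prodB_add])

theorem inG_yT_real {S : Fin 20} (hS : sS S = S) (hl : lam S = 1) {θ : K} (hθ : θ + φ θ = 1)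
    (u : F0 φ) : inG hφ (yT hφ S (θ * (u : K))) = xs S (u : K) := by
  rw [inG_yT, yP, hS, hl, Int.cast_one, one_mul, map_mul, F0_fix, ← xs_add, ← add_mul, hθ, one_mul]

/-- The test element. -/
noncomputable def aT (θ : K) (t : K) : GT hφ := xT hφ (show (5 : Fin 6) ≠ 0 by decide) (θ * t)

theorem inG_aT {θ : K} (hθ : θ + φ θ = 1) (t : F0 φ) :
    inG hφ (aT hφ θ t) = xl 5 0 (t : K) := by
  rw [aT, inG_xT, xP, show (Fin.rev (0 : Fin 6)) = 5 from rfl, show (Fin.rev (5 : Fin 6)) = 0 from rfl,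
    show kap (5 : Fin 6) 0 = 1 from rfl, Int.cast_one, one_mul, map_mul, F0_fix, ← xl_add, ← add_mul,
    hθ, one_mul]

theorem xs_injective (S : Fin 20) : Function.Injective (xs S : K → Gp K) := by
  intro a b h
  have h1 : xs S (a - b) * xs S b = 1 * xs S b := by rw [← xs_add, sub_add_cancel, one_mul, h]
  have h2 := mul_right_cancel h1
  have h3 := (xG_eq_one_iff facts_chevE6 (chk_dims.1.symm ▸ (chk_sigmaQ S).1)).1
    (congrArg Subtype.val h2)
  rcases mul_eq_zero.1 h3 with h4 | h4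
  · rcases chk_sign.1 S with h | h <;> simp [h] at h4
  · exact sub_eq_zero.1 h4

variable {k : ℕ} (ρ : Representation ℂ (GT hφ) (Fin k → ℂ))

include hc in
/-- A character is constant on a coset of the fixed highest root group that is a class. -/
theorem char_shiftT {g : GT hφ} {R : Fin 20} {c : K} (hc0 : c ≠ 0)
    (h : ∀ v, xs R v * inG hφ g * (xs R v)⁻¹ = inG hφ g * zz (c * v)) (w : F0 φ) :
    ρ.character (g * zT hφ w) = ρ.character g := by
  obtain ⟨θ, hθ⟩ := hc.exists_theta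
  obtain ⟨v, hv⟩ : ∃ v, c * v + φ (c * v) = (w : K) :=
    ⟨θ * w / c, by rw [mul_div_cancel₀ _ hc0, map_mul, F0_fix, ← add_mul, hθ, one_mul]⟩
  have e : yT hφ R v * g * (yT hφ R v)⁻¹ = g * zT hφ w := by
    refine inG_injective hφ ?_
    have h2 := congrArg (σp hφ) (h v)
    rw [map_mul, map_mul, map_mul, map_inv, σp_inG, σp_xs, σp_zz] at h2
    rw [map_mul, map_mul, map_mul, map_inv, inG_yT, inG_zT, yP,
      show xs R v * xs (sS R) ((lam R : K) * φ v) * inG hφ g *
          (xs R v * xs (sS R) ((lam R : K) * φ v))⁻¹ =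
        xs R v * (xs (sS R) ((lam R : K) * φ v) * inG hφ g * (xs (sS R) ((lam R : K) * φ v))⁻¹) *
          (xs R v)⁻¹ by group, h2,
      show xs R v * (inG hφ g * zz (φ (c * v))) * (xs R v)⁻¹ =
        xs R v * inG hφ g * (xs R v)⁻¹ * (xs R v * zz (φ (c * v)) * (xs R v)⁻¹) by group, h v,
      ← (zz_commute_xs R v _).eq, mul_inv_cancel_right, mul_assoc, ← zz_add, hv]
  rw [← e, ρ.char_conj]

include hc in
theorem vanishB {a : RB φ} (ha : a ≠ 0) (w : F0 φ) :
    ρ.character (elB hφ hc a * zT hφ w) = ρ.character (elB hφ hc a) := by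
  obtain ⟨i, hi⟩ := Function.ne_iff.1 (fun h => ha (Subtype.ext h) : a.1 ≠ 0)
  refine char_shiftT hφ hc ρ (R := (sB i).rev) (mul_ne_zero (cQ_ne (sB i)) hi) (fun v => ?_) w
  rw [inG_elB, prodB_conj i v a.1 _ (List.nodup_finRange 10), if_pos (List.mem_finRange i)]

/-- The two test coordinates. -/
noncomputable def two (θ : K) (u w : K) : GT hφ := yT hφ 0 (θ * u) * yT hφ 7 (θ * w)

theorem inG_two {θ : K} (hθ : θ + φ θ = 1) (u w : F0 φ) :
    inG hφ (two hφ θ u w) = xs 0 (u : K) * xs 7 (w : K) := by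
  rw [two, map_mul, inG_yT_real hφ chk_centre_zero.1 chk_centre_zero.2.2.1 hθ,
    inG_yT_real hφ chk_centre_zero.2.1 chk_centre_zero.2.2.2 hθ]

theorem two_mem (θ : K) (u w : K) : two hφ θ u w ∈ HT hφ := mul_mem (yT_mem hφ _ _) (yT_mem hφ _ _)

include hc in
theorem vanishTwo {θ : K} (hθ : θ + φ θ = 1) {u w : F0 φ} (h : u ≠ 0 ∨ w ≠ 0) (v : F0 φ) :
    ρ.character (two hφ θ u w * zT hφ v) = ρ.character (two hφ θ u w) := by
  by_cases hu : u = 0
  · subst hu
    have hw : (w : K) ≠ 0 := fun e => (h.resolve_left (fun h' => h' rfl)) (Subtype.ext e)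
    refine char_shiftT hφ hc ρ (R := (7 : Fin 20).rev) (mul_ne_zero (cQ_ne 7) hw) (fun x => ?_) v
    rw [inG_two hφ hθ, ZeroMemClass.coe_zero, xs_zero, one_mul, xs_pair]
  · have hu' : (u : K) ≠ 0 := fun e => hu (Subtype.ext e)
    refine char_shiftT hφ hc ρ (R := (0 : Fin 20).rev) (mul_ne_zero (cQ_ne 0) hu') (fun x => ?_) v
    rw [inG_two hφ hθ, show xs (0 : Fin 20).rev x * (xs 0 (u : K) * xs 7 (w : K)) * (xs (0 : Fin 20).rev x)⁻¹ =
      xs (0 : Fin 20).rev x * xs 0 (u : K) * (xs (0 : Fin 20).rev x)⁻¹ *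
        (xs (0 : Fin 20).rev x * xs 7 (w : K) * (xs (0 : Fin 20).rev x)⁻¹) by group,
      (xs_commute (S := 7) (S' := (0 : Fin 20).rev) (by decide) (w : K) x).eq, mul_inv_cancel_right,
      xs_pair, mul_assoc, mul_assoc, (zz_commute_xs 7 (w : K) _).eq]
    simp only [mul_assoc]

theorem char_zT {v : F0 φ} (hv : v ≠ 0) :
    ρ.character (zT hφ v) = ρ.character (zT hφ 1) := by
  have h1 : 1 < chevE6.rank := by decide +kernel
  obtain ⟨g, hg⟩ := exists_torus_node hφ (k := ⟨1, h1⟩) (Or.inl rfl) (t := (v : K))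
    (fun e => hv (Subtype.ext e)) (F0_fix v)
  have e : g * zT hφ 1 * g⁻¹ = zT hφ v := by
    refine inG_injective hφ ?_
    rw [map_mul, map_mul, map_inv, inG_zT, inG_zT]
    refine (hg 71 (by norm_num) _).trans ?_
    rw [chk_node _ rfl, zpow_one, OneMemClass.coe_one, mul_one]
    rfl
  rw [← e, ρ.char_conj]

/-- The Weyl element moving the test element into the radical. -/
theorem exists_weylT {θ : K} (hθ : θ + φ θ = 1) :
    ∃ (g : GT hφ) (c d : F0 φ), c ≠ 0 ∧ d ≠ 0 ∧
      ∀ t v : F0 φ, g * (aT hφ θ t * zT hφ v) * g⁻¹ =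
        two hφ θ ((c * t : F0 φ) : K) ((d * v : F0 φ) : K) := by
  obtain ⟨g, hg⟩ := exists_word hφ [2, 1, 2, 3, 0, 1, 2, 1, 0]
  obtain ⟨c, hc0, hc'⟩ := hg (rL 5 0) (chk_sigmaL 5 0 (by decide)).1
  obtain ⟨d, hd0, hd'⟩ := hg 71 (by norm_num)
  rw [chk_weyl.1] at hc'
  rw [chk_weyl.2] at hd'
  have hs : ∀ S, (eQ S : K) * eQ S = 1 := fun S => sign_sq (chk_sign.1 S)
  have e1 : ∀ t : K, inG hφ g * xl 5 0 t * (inG hφ g)⁻¹ =
      xs 0 ((eQ 0 : K) * c * (eL 5 0 : K) * t) := fun t => by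
    rw [xl, hc', xs]
    congr 1
    linear_combination -(c * (eL 5 0 : K) * t) * hs 0
  have e2 : ∀ v : K, inG hφ g * zz v * (inG hφ g)⁻¹ = xs 7 ((eQ 7 : K) * d * v) := fun v => by
    rw [zz, hd', xs]
    congr 1
    linear_combination -(d * v) * hs 7
  have r1 : φ ((eQ 0 : K) * c * (eL 5 0 : K)) = (eQ 0 : K) * c * (eL 5 0 : K) := by
    have h := congrArg (σp hφ) (e1 1)
    rw [mul_one, σp_xs, chk_centre_zero.1, chk_centre_zero.2.2.1, map_mul, map_mul, map_inv, σp_inG,
      σp_xl hφ (show (5 : Fin 6) ≠ 0 by decide), map_one, mul_one, Int.cast_one, one_mul,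
      show kap (5 : Fin 6) 0 = 1 from rfl, show (Fin.rev (0 : Fin 6)) = 5 from rfl,
      show (Fin.rev (5 : Fin 6)) = 0 from rfl, Int.cast_one, e1 1, mul_one] at h
    exact (xs_injective 0 h).symm
  have r2 : φ ((eQ 7 : K) * d) = (eQ 7 : K) * d := by
    have h := congrArg (σp hφ) (e2 1)
    rw [mul_one, σp_xs, chk_centre_zero.2.1, chk_centre_zero.2.2.2, map_mul, map_mul, map_inv, σp_inG,
      σp_zz, map_one, Int.cast_one, one_mul, e2 1, mul_one] at h
    exact (xs_injective 7 h).symm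
  refine ⟨g, ⟨_, r1⟩, ⟨_, r2⟩, fun e => ?_, fun e => ?_, fun t v => inG_injective hφ ?_⟩
  · refine mul_ne_zero (mul_ne_zero (fun h => ?_) hc0) (fun h => ?_) (congrArg Subtype.val e)
    · rcases chk_sign.1 0 with h' | h' <;> simp [h'] at h
    · rcases chk_sign.2 5 0 with h' | h' <;> simp [h'] at h
  · refine mul_ne_zero (fun h => ?_) hd0 (congrArg Subtype.val e)
    rcases chk_sign.1 7 with h' | h' <;> simp [h'] at h
  · rw [inG_two hφ hθ, map_mul, map_mul, map_mul, map_inv, inG_aT hφ hθ, inG_zT,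
      show inG hφ g * (xl 5 0 (t : K) * zz (v : K)) * (inG hφ g)⁻¹ =
        inG hφ g * xl 5 0 (t : K) * (inG hφ g)⁻¹ * (inG hφ g * zz (v : K) * (inG hφ g)⁻¹) by group,
      e1, e2, Subfield.coe_mul, Subfield.coe_mul]

variable [Fintype K]

noncomputable instance : Fintype (F0 φ) := Fintype.ofFinite _

noncomputable instance : Fintype (RB φ) := Fintype.ofFinite _

include hc in
/-- The eigenspaces of the fixed highest root group. -/
theorem basicT {q : ℕ} (hq2 : 2 ≤ q) (hK : Fintype.card K = q ^ 2)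
    (hsimp : IsSimpleGroup (GT hφ)) (hρ : ρ.IsIrreducible) (hk : 2 ≤ k) :
    ∃ s m : ℕ, 0 < m ∧ k = s + (q - 1) * (q ^ 10 * m) ∧
      (∑ v, ρ.character (zT hφ v) = (q : ℂ) * s) ∧
      ((q : ℂ) * s = k + ((q : ℂ) - 1) * ρ.character (zT hφ 1)) ∧
      ρ.character (zT hφ 1) ≠ (k : ℂ) := by
  classical
  haveI := hsimp
  have hnat : Nat.card (F0 φ) = q := hc.card_F0 hK
  have hcardF : Fintype.card (F0 φ) = q := by rw [← Nat.card_eq_fintype_card, hnat]
  have hqC : (q : ℂ) ≠ 0 := Nat.cast_ne_zero.2 (by omega)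
  set χ : GT hφ → ℂ := ρ.character with hχ
  have hdim : Module.finrank ℂ (Fin k → ℂ) = k := by rw [Module.finrank_pi, Fintype.card_fin]
  have hχ1 : χ 1 = (k : ℂ) := by rw [hχ, Representation.char_one, hdim]
  have hz0 : zT hφ 0 = 1 := by
    have h := zT_add hφ 0 0
    rw [add_zero, left_eq_mul] at h
    exact h
  set c := χ (zT hφ 1) with hcdef
  obtain ⟨s, hs⟩ := D4Deg.sum_twist_add ρ (zT hφ) (zT_add hφ) 1
  simp only [AddChar.one_apply, one_mul, hnat] at hs
  have hsplit : ∀ f : F0 φ → ℂ, ∑ v, f v = f 0 + ∑ v ∈ Finset.univ.erase 0, f v := fun f =>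
    (Finset.add_sum_erase _ _ (Finset.mem_univ 0)).symm
  have hqs : (q : ℂ) * s = k + ((q : ℂ) - 1) * c := by
    rw [← hs, hsplit, hz0, ← hχ, hχ1, Finset.sum_congr rfl fun v hv =>
      char_zT hφ ρ (Finset.ne_of_mem_erase hv), Finset.sum_const,
      Finset.card_erase_of_mem (Finset.mem_univ _), Finset.card_univ, hcardF, nsmul_eq_mul,
      Nat.cast_sub (by omega : 1 ≤ q), Nat.cast_one]
  obtain ⟨ψ₁, hψ₁⟩ : ∃ ψ : AddChar (F0 φ) ℂ, ψ 1 ≠ 1 := AddChar.exists_apply_ne_zero.2 one_ne_zero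
  have hψ₁1 : ψ₁ ≠ 1 := fun h => hψ₁ (by rw [h, AddChar.one_apply])
  obtain ⟨e, he⟩ := D4Deg.sum_twist_add ρ (zT hφ) (zT_add hφ) ψ₁
  rw [hnat, hsplit] at he
  have hψsum : ∑ v ∈ Finset.univ.erase 0, ψ₁ v = -1 := by
    have h := hsplit (fun v => ψ₁ v)
    rw [AddChar.map_zero_eq_one, AddChar.sum_eq_zero_of_ne_one hψ₁1] at h
    linear_combination -h
  have hqe : (q : ℂ) * e = k - c := by
    rw [← he, hz0, AddChar.map_zero_eq_one, one_mul, ← hχ, hχ1,
      Finset.sum_congr rfl fun v hv => by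
        rw [hχ, char_zT hφ ρ (Finset.ne_of_mem_erase hv)], ← Finset.sum_mul, hψsum, ← hχ, ← hcdef]
    ring
  have hD : s + (q - 1) * e = k := by
    have h : (q : ℂ) * ((s : ℂ) + ((q : ℂ) - 1) * e) = (q : ℂ) * k := by
      linear_combination hqs + ((q : ℂ) - 1) * hqe
    have h2 := mul_left_cancel₀ hqC h
    rw [← Nat.cast_one, ← Nat.cast_sub (by omega : 1 ≤ q)] at h2
    exact_mod_cast h2
  have hck : c ≠ (k : ℂ) := by
    intro hcon
    have hz : ρ (zT hφ 1) = LinearMap.id := by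
      refine (Char.character_eq_finrank_iff ρ _).1 ?_
      rw [hdim, ← hχ, ← hcdef, hcon]
    have hker : ρ.ker = ⊤ := by
      rcases (MonoidHom.normal_ker ρ).eq_bot_or_eq_top with h | h
      · exfalso
        have hm' : zT hφ 1 ∈ ρ.ker := by rw [MonoidHom.mem_ker, hz]; rfl
        rw [h, Subgroup.mem_bot] at hm'
        have h1 := congrArg (inG hφ) hm'
        rw [map_one, inG_zT] at h1
        exact one_ne_zero (zz_eq_one_iff.1 h1)
      · exact h
    obtain ⟨-, hsub⟩ := Char.isIrreducible_iff.1 hρ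
    haveI : Nonempty (Fin k) := ⟨⟨0, by omega⟩⟩
    obtain ⟨x, hx⟩ := exists_ne (0 : Fin k → ℂ)
    have hinvsub := hsub (Submodule.span ℂ {x}) fun g v hv => by
      rw [show ρ g = 1 from MonoidHom.mem_ker.1 (hker ▸ Subgroup.mem_top g)]
      exact hv
    rcases hinvsub with h | h
    · exact hx (Submodule.span_singleton_eq_bot.1 h)
    · have := finrank_span_singleton (K := ℂ) hx
      rw [h, finrank_top, hdim] at this
      omega
  have hpos : 0 < e := by
    by_contra h0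
    obtain rfl : e = 0 := by omega
    rw [Nat.cast_zero, mul_zero] at hqe
    exact hck (by linear_combination hqe)
  -- an abelian subgroup of order `q ^ 10`
  set A : RB φ → GT hφ := elB hφ hc with hAdef
  have hAadd : ∀ a b, A (a + b) = A a * A b := elB_add hφ hc
  have hcardA : Nat.card (RB φ) = q ^ 10 := by
    rw [RB, hc.card_RV hK rb_inv, Fintype.card_fin]
  have hcardB : Nat.card (RB φ × F0 φ) = q ^ 11 := by
    rw [Nat.card_prod, hcardA, hnat]; ring
  have hBadd : ∀ a b : RB φ × F0 φ,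
      A (a + b).1 * zT hφ (a + b).2 = (A a.1 * zT hφ a.2) * (A b.1 * zT hφ b.2) := by
    intro a b
    refine inG_injective hφ ?_
    rw [Prod.fst_add, Prod.snd_add, hAadd, zT_add]
    simp only [map_mul, hAdef, inG_elB, inG_zT]
    exact (zz_commute_mem (prodB_mem b.1.1 (List.finRange 10)) (a.2 : K)).symm.mul_mul_mul_comm _ _
  obtain ⟨N₀, hN₀⟩ := D4Deg.sum_twist_add ρ A hAadd 1
  obtain ⟨N₁, hN₁⟩ := D4Deg.sum_twist_add ρ (fun a : RB φ × F0 φ => A a.1 * zT hφ a.2) hBadd 1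
  simp only [AddChar.one_apply, one_mul, hcardA, hcardB, ← hχ] at hN₀ hN₁
  rw [Fintype.sum_prod_type] at hN₁
  have hA0 : A 0 = 1 := by
    have h := hAadd 0 0
    rw [add_zero, left_eq_mul] at h
    exact h
  have hN : (q : ℤ) ^ 10 * N₁ = (s : ℤ) + (q : ℤ) ^ 10 * N₀ - k := by
    have h1 : ∑ a, ∑ v, χ (A a * zT hφ v) =
        ∑ v, χ (zT hφ v) + (q : ℂ) * (∑ a, χ (A a) - (k : ℂ)) := by
      rw [← Finset.add_sum_erase _ _ (Finset.mem_univ (0 : RB φ)),
        ← Finset.add_sum_erase _ (fun a => χ (A a)) (Finset.mem_univ (0 : RB φ)), hA0, hχ1,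
        add_sub_cancel_left, Finset.mul_sum]
      simp only [one_mul]
      congr 1
      refine Finset.sum_congr rfl fun a ha => ?_
      rw [hAdef, Finset.sum_congr rfl fun v _ => vanishB hφ hc ρ (Finset.ne_of_mem_erase ha) v,
        Finset.sum_const, Finset.card_univ, hcardF, nsmul_eq_mul]
    rw [hN₁, hN₀, hs] at h1
    have h2 : (q : ℂ) * ((q : ℂ) ^ 10 * N₁) = (q : ℂ) * ((s : ℂ) + (q : ℂ) ^ 10 * N₀ - k) := by
      push_cast at h1 ⊢
      linear_combination h1
    have h3 := mul_left_cancel₀ hqC h2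
    exact_mod_cast h3
  obtain ⟨m, hm⟩ : q ^ 10 ∣ e := by
    have hdvd : (q : ℤ) ^ 10 ∣ ((q : ℤ) - 1) * e := ⟨(N₀ : ℤ) - N₁, by
      have hD' : (s : ℤ) + ((q : ℤ) - 1) * e = k := by
        rw [← hD]; push_cast [Nat.cast_sub (by omega : 1 ≤ q)]; ring
      linear_combination hD' + hN⟩
    have hcop : IsCoprime ((q : ℤ) ^ 10) ((q : ℤ) - 1) :=
      (show IsCoprime (q : ℤ) ((q : ℤ) - 1) from ⟨1, -1, by ring⟩).pow_left
    exact_mod_cast hcop.dvd_of_dvd_mul_left hdvd
  exact ⟨s, m, Nat.pos_of_ne_zero fun h0 => by rw [h0, mul_zero] at hm; omega,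
    by rw [← hm]; exact hD.symm, hs, hqs, hck⟩

end Cfsg.Agent.E6Tw
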